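import Mathlib
import Cfsg.Agent.Nodes.Ty
import Cfsg.Agent.LieRecognition.BNCox
import Cfsg.Agent.KFacts.SLRow.Def
import Cfsg.Agent.KFacts.SysSp

/-!
# Facts on Coxeter matrices (helper538, task 859 AA-MFACTS)

For the types `A_n` (`LieRecognition.BNCox.cA n`), `B_n` (`CoxeterMatrix.B n`), `D_{n+2}` (`Nodes.TypeD.M n`),
`E₆`, `E₇`, `E₈`, `F₄`, `G₂` :

* `irr_*` : the diagram is connected;
* `aut_*` : no automorphism of the diagram has odd prime order (`D₄`: only `3`);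
* `star_*` : no node meets all bonds (rank at least `4`, `D₄` excluded);
* `mid_A3`, `mid_B3` : in rank `3` only the middle node meets all bonds; also `mid_D4`;
* `even_B2`, `even_G2`.
-/

set_option autoImplicit false

namespace Cfsg.Agent.H538.MFacts

open Cfsg.Agent.LieRecognition.BNCox Cfsg.Agent.Nodes

theorem cB_apply {n : ℕ} (i j : Fin n) : CoxeterMatrix.B n i j = if i = j then 1 else
    (if (i : ℕ) = n - 1 ∧ (j : ℕ) = n - 2 ∨ (j : ℕ) = n - 1 ∧ (i : ℕ) = n - 2 then 4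
      else (if (j : ℕ) + 1 = i ∨ (i : ℕ) + 1 = j then 3 else 2)) := rfl

theorem cA_ne_two {n : ℕ} (i j : Fin n) : cA n i j ≠ 2 ↔ i = j ∨ (i : ℕ) + 1 = j ∨ (j : ℕ) + 1 = i := by
  rw [cA_apply, Fin.ext_iff]
  unfold LieRecognition.CoxClass.mA
  split_ifs with h1 h2 <;> simp [*]

theorem cB_ne_two {n : ℕ} (i j : Fin n) :
    CoxeterMatrix.B n i j ≠ 2 ↔ i = j ∨ (i : ℕ) + 1 = j ∨ (j : ℕ) + 1 = i := by
  have := i.2
  have := j.2
  rw [cB_apply]
  by_cases h : i = j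
  · simp [h]
  have h' : (i : ℕ) ≠ j := fun e => h (Fin.ext e)
  rw [if_neg h]
  split_ifs with h2 h3
  · simp only [ne_eq, show ¬ (4 : ℕ) = 2 by norm_num, not_false_eq_true, h, false_or, true_iff]
    omega
  · simp only [ne_eq, show ¬ (3 : ℕ) = 2 by norm_num, not_false_eq_true, h, false_or, true_iff]
    omega
  · simp only [ne_eq, not_true_eq_false, h, false_or, false_iff]
    omega

theorem cD_ne_two {n : ℕ} (i j : Fin (n + 2)) :
    TypeD.M n i j ≠ 2 ↔ i = j ∨ TypeD.Adj i j ∨ TypeD.Adj j i := by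
  rw [TypeD.M_apply]
  split_ifs with h1 h2 <;> simp [*]

/-! ### connected -/

/-- Parents give connectedness. -/
theorem irr_of_parent {I : Type*} {M : CoxeterMatrix I} (d : I → ℕ) (par : I → I)
    (h0 : ∀ i j, d i = 0 → d j = 0 → i = j)
    (h1 : ∀ i, d i ≠ 0 → d (par i) < d i) (h2 : ∀ i, d i ≠ 0 → M i (par i) ≠ 2) :
    ∀ J : Set I, J.Nonempty → J ≠ Set.univ → ∃ a ∈ J, ∃ b, b ∉ J ∧ M a b ≠ 2 := by
  intro J hJ hJ'
  obtain ⟨a, ha, b, hb, h⟩ := Cfsg.Agent.KFacts.SLRow.Def.conn_of_parent (M := M) d par h0 h1 h2 J hJ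
    (Set.nonempty_compl.2 hJ')
  exact ⟨a, ha, b, hb, h⟩

theorem irr_A (n : ℕ) : ∀ J : Set (Fin n), J.Nonempty → J ≠ Set.univ → ∃ a ∈ J, ∃ b, b ∉ J ∧ cA n a b ≠ 2 := by
  refine irr_of_parent (fun i => (i : ℕ)) (fun i => ⟨(i : ℕ) - 1, by have := i.2; omega⟩) (fun i j hi hj => ?_)
    (fun i hi => ?_) (fun i hi => ?_)
  · exact Fin.ext (by omega)
  · show (i : ℕ) - 1 < i
    omega
  · rw [cA_apply]
    show LieRecognition.CoxClass.mA (i : ℕ) ((i : ℕ) - 1) ≠ 2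
    unfold LieRecognition.CoxClass.mA
    rw [if_neg (by omega), if_pos (by omega)]
    norm_num

theorem irr_B (n : ℕ) : ∀ J : Set (Fin n), J.Nonempty → J ≠ Set.univ →
    ∃ a ∈ J, ∃ b, b ∉ J ∧ CoxeterMatrix.B n a b ≠ 2 :=
  fun J => Cfsg.Agent.KFacts.SysSp.conn_B n J

theorem irr_D (n : ℕ) (hn : 1 ≤ n) : ∀ J : Set (Fin (n + 2)), J.Nonempty → J ≠ Set.univ →
    ∃ a ∈ J, ∃ b, b ∉ J ∧ TypeD.M n a b ≠ 2 := by
  refine irr_of_parent (fun i => (i : ℕ)) (fun i => if (i : ℕ) = n + 1 then ⟨n - 1, by omega⟩ else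
    ⟨(i : ℕ) - 1, by have := i.2; omega⟩) (fun i j hi hj => ?_) (fun i hi => ?_) (fun i hi => ?_)
  · exact Fin.ext (by omega)
  · split_ifs with h
    · show n - 1 < (i : ℕ)
      omega
    · show (i : ℕ) - 1 < i
      omega
  · have := i.2
    split_ifs with h
    · rw [cD_ne_two]
      exact Or.inr (Or.inr (Or.inr ⟨h, show n - 1 + 2 = (i : ℕ) by omega⟩))
    · rw [cD_ne_two]
      exact Or.inr (Or.inr (Or.inl ⟨by omega, show (i : ℕ) - 1 + 1 = (i : ℕ) by omega⟩))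

theorem irr_E6 : ∀ J : Set (Fin 6), J.Nonempty → J ≠ Set.univ → ∃ a ∈ J, ∃ b, b ∉ J ∧ CoxeterMatrix.E₆ a b ≠ 2 :=
  irr_of_parent (M := CoxeterMatrix.E₆) ![2, 1, 1, 0, 1, 2] ![2, 3, 3, 3, 3, 4] (by decide) (by decide) (by decide)

theorem irr_E7 : ∀ J : Set (Fin 7), J.Nonempty → J ≠ Set.univ → ∃ a ∈ J, ∃ b, b ∉ J ∧ CoxeterMatrix.E₇ a b ≠ 2 :=
  irr_of_parent (M := CoxeterMatrix.E₇) ![2, 1, 1, 0, 1, 2, 3] ![2, 3, 3, 3, 3, 4, 5] (by decide) (by decide)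
    (by decide)

theorem irr_E8 : ∀ J : Set (Fin 8), J.Nonempty → J ≠ Set.univ → ∃ a ∈ J, ∃ b, b ∉ J ∧ CoxeterMatrix.E₈ a b ≠ 2 :=
  irr_of_parent (M := CoxeterMatrix.E₈) ![2, 1, 1, 0, 1, 2, 3, 4] ![2, 3, 3, 3, 3, 4, 5, 6] (by decide) (by decide)
    (by decide)

theorem irr_F4 : ∀ J : Set (Fin 4), J.Nonempty → J ≠ Set.univ → ∃ a ∈ J, ∃ b, b ∉ J ∧ CoxeterMatrix.F₄ a b ≠ 2 :=
  irr_of_parent (M := CoxeterMatrix.F₄) (fun i => (i : ℕ)) ![0, 0, 1, 2] (by decide) (by decide) (by decide)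

theorem irr_G2 : ∀ J : Set (Fin 2), J.Nonempty → J ≠ Set.univ → ∃ a ∈ J, ∃ b, b ∉ J ∧ CoxeterMatrix.G₂ a b ≠ 2 :=
  irr_of_parent (M := CoxeterMatrix.G₂) (fun i => (i : ℕ)) ![0, 0] (by decide) (by decide) (by decide)

/-! ### diagram automorphisms -/

/-- A permutation of prime order `r` fixes the points of an invariant set with fewer than `r` points. -/
theorem fix_of_card {I : Type*} {σ : Equiv.Perm I} {r : ℕ} (hr : r.Prime) (h : σ ^ r = 1) (S : Finset I)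
    (hS : ∀ x ∈ S, σ x ∈ S) (hc : S.card < r) : ∀ x ∈ S, σ x = x := by
  classical
  intro x hx
  have hit : ∀ k : ℕ, (σ ^ k) x ∈ S := by
    intro k
    induction k with
    | zero => simpa using hx
    | succ k ih => rw [pow_succ', Equiv.Perm.mul_apply]; exact hS _ ih
  have hper : Function.IsPeriodicPt σ r x := by
    show σ^[r] x = x
    rw [← Equiv.Perm.coe_pow, h]
    rfl
  -- pigeonhole on the powers `0, …, r - 1`
  obtain ⟨a, ha, b, hb, hab, he⟩ := Finset.exists_ne_map_eq_of_card_lt_of_maps_to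
    (s := Finset.range r) (t := S) (f := fun k => (σ ^ k) x) (by rw [Finset.card_range]; exact hc)
    (fun k _ => hit k)
  rw [Finset.mem_range] at ha hb
  have key : ∀ a b : ℕ, a < b → b < r → (σ ^ a) x = (σ ^ b) x → σ x = x := by
    intro a b hab hb he
    have h1 : Function.IsPeriodicPt σ (b - a) x := by
      show σ^[b - a] x = x
      rw [← Equiv.Perm.coe_pow]
      have h2 : (σ ^ a) ((σ ^ (b - a)) x) = (σ ^ a) x := by
        rw [← Equiv.Perm.mul_apply, ← pow_add, show a + (b - a) = b by omega]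
        exact he.symm
      exact (σ ^ a).injective h2
    have h3 : Function.IsPeriodicPt σ 1 x := by
      have h4 : Nat.gcd r (b - a) = 1 := by
        rw [← Nat.coprime_iff_gcd_eq_one]
        exact (Nat.Prime.coprime_iff_not_dvd hr).2 fun h5 => by
          have := Nat.le_of_dvd (by omega) h5
          omega
      rw [← h4]
      exact hper.gcd h1
    exact h3
  rcases Nat.lt_or_gt_of_ne hab with h1 | h1
  · exact key a b h1 hb he
  · exact key b a h1 ha he.symm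

/-- a two point set -/
theorem fix_pair {I : Type*} [DecidableEq I] {σ : Equiv.Perm I} {r : ℕ} (hr : r.Prime) (h2 : r ≠ 2) (h : σ ^ r = 1)
    {a b : I} (ha : σ a = a ∨ σ a = b) (hb : σ b = a ∨ σ b = b) : σ a = a ∧ σ b = b := by
  have h3 := fix_of_card hr h {a, b} (fun x hx => by
    simp only [Finset.mem_insert, Finset.mem_singleton] at hx ⊢
    rcases hx with rfl | rfl
    · exact ha
    · exact hb) (lt_of_le_of_lt (Finset.card_le_two) (by have := hr.two_le; omega))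
  exact ⟨h3 a (by simp), h3 b (by simp)⟩

/-- An invariant function with fibres of size at most two forces an automorphism of odd prime order to be trivial. -/
theorem aut_of_inv {I : Type*} [Fintype I] [DecidableEq I] {σ : Equiv.Perm I} {r : ℕ} (hr : r.Prime) (h2 : r ≠ 2)
    (h : σ ^ r = 1) (f : I → ℕ) (hf : ∀ i, f (σ i) = f i)
    (hc : ∀ i, (Finset.univ.filter fun j => f j = f i).card ≤ 2) : σ = 1 := by
  ext x
  have := fix_of_card hr h (Finset.univ.filter fun j => f j = f x) (fun y hy => by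
    simp only [Finset.mem_filter, Finset.mem_univ, true_and] at hy ⊢
    rw [hf, hy]) (lt_of_le_of_lt (hc x) (by have := hr.two_le; omega)) x (by simp)
  rw [this]
  rfl

/-- degree -/
def dg {l : ℕ} (M : CoxeterMatrix (Fin l)) (i : Fin l) : ℕ := ∑ j, M i j

/-- degree of the neighbours -/
def dg2 {l : ℕ} (M : CoxeterMatrix (Fin l)) (i : Fin l) : ℕ := ∑ j, M i j * dg M j

theorem dg_inv {l : ℕ} {M : CoxeterMatrix (Fin l)} {σ : Equiv.Perm (Fin l)} (hσ : ∀ i j, M (σ i) (σ j) = M i j)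
    (i : Fin l) : dg M (σ i) = dg M i := by
  unfold dg
  rw [← Equiv.sum_comp σ]
  exact Finset.sum_congr rfl fun j _ => hσ i j

theorem dg2_inv {l : ℕ} {M : CoxeterMatrix (Fin l)} {σ : Equiv.Perm (Fin l)} (hσ : ∀ i j, M (σ i) (σ j) = M i j)
    (i : Fin l) : dg2 M (σ i) = dg2 M i := by
  unfold dg2
  rw [← Equiv.sum_comp σ]
  exact Finset.sum_congr rfl fun j _ => by rw [hσ i j, dg_inv hσ]

theorem aut_of_dg {l : ℕ} {M : CoxeterMatrix (Fin l)}
    (hc : ∀ i, (Finset.univ.filter fun j => dg M j + 1000 * dg2 M j = dg M i + 1000 * dg2 M i).card ≤ 2)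
    (σ : Equiv.Perm (Fin l)) (hσ : ∀ i j, M (σ i) (σ j) = M i j) (r : ℕ) (hr : r.Prime) (h2 : r ≠ 2)
    (h : σ ^ r = 1) : σ = 1 :=
  aut_of_inv hr h2 h (fun i => dg M i + 1000 * dg2 M i) (fun i => by rw [dg_inv hσ, dg2_inv hσ]) hc

theorem aut_E6 (σ : Equiv.Perm (Fin 6)) (hσ : ∀ i j, CoxeterMatrix.E₆ (σ i) (σ j) = CoxeterMatrix.E₆ i j) (r : ℕ)
    (hr : r.Prime) (h2 : r ≠ 2) (h : σ ^ r = 1) : σ = 1 :=
  aut_of_dg (by decide) σ hσ r hr h2 h

theorem aut_E7 (σ : Equiv.Perm (Fin 7)) (hσ : ∀ i j, CoxeterMatrix.E₇ (σ i) (σ j) = CoxeterMatrix.E₇ i j) (r : ℕ)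
    (hr : r.Prime) (h2 : r ≠ 2) (h : σ ^ r = 1) : σ = 1 :=
  aut_of_dg (by decide) σ hσ r hr h2 h

theorem aut_E8 (σ : Equiv.Perm (Fin 8)) (hσ : ∀ i j, CoxeterMatrix.E₈ (σ i) (σ j) = CoxeterMatrix.E₈ i j) (r : ℕ)
    (hr : r.Prime) (h2 : r ≠ 2) (h : σ ^ r = 1) : σ = 1 :=
  aut_of_dg (by decide) σ hσ r hr h2 h

theorem aut_F4 (σ : Equiv.Perm (Fin 4)) (hσ : ∀ i j, CoxeterMatrix.F₄ (σ i) (σ j) = CoxeterMatrix.F₄ i j) (r : ℕ)
    (hr : r.Prime) (h2 : r ≠ 2) (h : σ ^ r = 1) : σ = 1 :=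
  aut_of_dg (by decide) σ hσ r hr h2 h

theorem aut_G2 (σ : Equiv.Perm (Fin 2)) (hσ : ∀ i j, CoxeterMatrix.G₂ (σ i) (σ j) = CoxeterMatrix.G₂ i j) (r : ℕ)
    (hr : r.Prime) (h2 : r ≠ 2) (h : σ ^ r = 1) : σ = 1 :=
  aut_of_dg (by decide) σ hσ r hr h2 h

/-- path induction: on a path `0 - 1 - … - m` all of whose nodes below `m` have no other neighbours, an automorphism
fixing `m` and `m - 1` fixes everything below. -/
theorem fix_path {l : ℕ} {M : CoxeterMatrix (Fin l)} {σ : Equiv.Perm (Fin l)} (hσ : ∀ i j, M (σ i) (σ j) = M i j)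
    (m : ℕ) (hm : m < l) (hadj : ∀ i j : Fin l, (i : ℕ) + 1 = j → (j : ℕ) ≤ m → M i j ≠ 2)
    (hnot : ∀ i j : Fin l, 0 < (i : ℕ) → (i : ℕ) < m → M i j ≠ 2 → j = i ∨ (j : ℕ) = i + 1 ∨ (j : ℕ) + 1 = i)
    (h1 : ∀ i : Fin l, m ≤ (i : ℕ) + 1 → (i : ℕ) ≤ m → σ i = i) : ∀ i : Fin l, (i : ℕ) ≤ m → σ i = i := by
  have key : ∀ k : ℕ, ∀ i : Fin l, (i : ℕ) ≤ m → m ≤ (i : ℕ) + k → σ i = i := by
    intro k
    induction k with
    | zero => exact fun i hi h => h1 i (by omega) hi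
    | succ k ih =>
      intro i hi h
      by_cases h2 : m ≤ (i : ℕ) + k
      · exact ih i hi h2
      by_cases h3 : m ≤ (i : ℕ) + 1
      · exact h1 i h3 hi
      have hi1 : (i : ℕ) + 1 < l := by omega
      have hi2 : (i : ℕ) + 2 < l := by omega
      have e1 : σ ⟨i + 1, hi1⟩ = ⟨i + 1, hi1⟩ := ih _ (by show (i : ℕ) + 1 ≤ m; omega) (by show m ≤ (i : ℕ) + 1 + k; omega)
      have e2 : σ ⟨i + 2, hi2⟩ = ⟨i + 2, hi2⟩ := by
        by_cases hk : m ≤ (i : ℕ) + 2 + k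
        · exact ih _ (by show (i : ℕ) + 2 ≤ m; omega) hk
        · omega
      have h4 : M ⟨i + 1, hi1⟩ (σ i) ≠ 2 := by
        have := hσ ⟨i + 1, hi1⟩ i
        rw [e1] at this
        rw [this, M.symmetric]
        exact hadj i _ rfl (by show (i : ℕ) + 1 ≤ m; omega)
      rcases hnot ⟨i + 1, hi1⟩ (σ i) (Nat.succ_pos _) (by show (i : ℕ) + 1 < m; omega) h4 with h5 | h5 | h5
      · exfalso
        have h6 := σ.injective (h5.trans e1.symm)
        have := congrArg Fin.val h6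
        simp at this
      · exfalso
        have h6 : σ i = ⟨i + 2, hi2⟩ := Fin.ext h5
        have h7 := σ.injective (h6.trans e2.symm)
        have := congrArg Fin.val h7
        simp at this
      · exact Fin.ext (by have : (σ i : ℕ) + 1 = i + 1 := h5; omega)
  exact fun i hi => key m i hi (by omega)

theorem aut_A (n : ℕ) (σ : Equiv.Perm (Fin n)) (hσ : ∀ i j, cA n (σ i) (σ j) = cA n i j) (r : ℕ)
    (hr : r.Prime) (h2 : r ≠ 2) (h : σ ^ r = 1) : σ = 1 := by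
  rcases Nat.lt_or_ge n 2 with hn | hn
  · have : Subsingleton (Fin n) := by
      rw [Fin.subsingleton_iff_le_one]
      omega
    exact Equiv.ext fun x => Subsingleton.elim _ _
  -- the end nodes
  have hend : ∀ i : Fin n, (i : ℕ) = 0 ∨ (i : ℕ) = n - 1 → (σ i : ℕ) = 0 ∨ (σ i : ℕ) = n - 1 := by
    intro i hi
    by_contra hcon
    push Not at hcon
    have := (σ i).2
    -- `σ i` has two neighbours
    have hk : ∀ j : Fin n, cA n (σ i) j ≠ 2 → cA n i (σ.symm j) ≠ 2 := by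
      intro j hj
      rw [← hσ, Equiv.apply_symm_apply]
      exact hj
    have ha : (σ i : ℕ) - 1 < n := by omega
    have hb : (σ i : ℕ) + 1 < n := by omega
    have h3 := hk ⟨σ i - 1, ha⟩ ((cA_ne_two _ _).2 (Or.inr (Or.inr (by show (σ i : ℕ) - 1 + 1 = _; omega))))
    have h4 := hk ⟨σ i + 1, hb⟩ ((cA_ne_two _ _).2 (Or.inr (Or.inl rfl)))
    rw [cA_ne_two] at h3 h4
    have h5 : i ≠ σ.symm ⟨σ i - 1, ha⟩ := by
      intro h6
      have h7 := congrArg Fin.val (congrArg σ h6)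
      rw [Equiv.apply_symm_apply] at h7
      have : (σ i : ℕ) = (σ i : ℕ) - 1 := h7
      omega
    have h6 : i ≠ σ.symm ⟨σ i + 1, hb⟩ := by
      intro h6
      have h7 := congrArg Fin.val (congrArg σ h6)
      rw [Equiv.apply_symm_apply] at h7
      have : (σ i : ℕ) = (σ i : ℕ) + 1 := h7
      omega
    have h7 : (σ.symm ⟨σ i - 1, ha⟩ : Fin n) = σ.symm ⟨σ i + 1, hb⟩ := by
      apply Fin.ext
      have := (σ.symm ⟨σ i - 1, ha⟩ : Fin n).2
      have := (σ.symm ⟨σ i + 1, hb⟩ : Fin n).2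
      rcases h3 with h3 | h3
      · exact absurd h3 h5
      rcases h4 with h4 | h4
      · exact absurd h4 h6
      omega
    have h8 := congrArg Fin.val (σ.symm.injective h7)
    have : (σ i : ℕ) - 1 = σ i + 1 := h8
    omega
  have hz : (0 : ℕ) < n := by omega
  have hl : n - 1 < n := by omega
  have e1 : σ ⟨n - 1, hl⟩ = ⟨n - 1, hl⟩ := by
    refine (fix_pair hr h2 h (a := ⟨0, hz⟩) (b := ⟨n - 1, hl⟩) ?_ ?_).2
    · rcases hend ⟨0, hz⟩ (Or.inl rfl) with h3 | h3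
      · exact Or.inl (Fin.ext h3)
      · exact Or.inr (Fin.ext h3)
    · rcases hend ⟨n - 1, hl⟩ (Or.inr rfl) with h3 | h3
      · exact Or.inl (Fin.ext h3)
      · exact Or.inr (Fin.ext h3)
  -- the neighbour of the end
  have hm : n - 2 < n := by omega
  have e2 : σ ⟨n - 2, hm⟩ = ⟨n - 2, hm⟩ := by
    have h3 := hσ ⟨n - 2, hm⟩ ⟨n - 1, hl⟩
    rw [e1] at h3
    have h4 : cA n (σ ⟨n - 2, hm⟩) ⟨n - 1, hl⟩ ≠ 2 := by
      rw [h3, cA_ne_two]
      exact Or.inr (Or.inl (by show n - 2 + 1 = n - 1; omega))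
    rw [cA_ne_two] at h4
    have := (σ ⟨n - 2, hm⟩).2
    rcases h4 with h4 | h4 | h4
    · exfalso
      have := congrArg Fin.val (σ.injective (h4.trans e1.symm))
      have : n - 2 = n - 1 := this
      omega
    · apply Fin.ext
      have h5 : (σ ⟨n - 2, hm⟩ : ℕ) + 1 = n - 1 := h4
      show (σ ⟨n - 2, hm⟩ : ℕ) = n - 2
      omega
    · have h5 : n - 1 + 1 = (σ ⟨n - 2, hm⟩ : ℕ) := h4
      omega
  have h3 := fix_path (M := cA n) hσ (n - 1) hl (fun i j hij _ => (cA_ne_two _ _).2 (Or.inr (Or.inl hij)))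
    (fun i j _ _ h4 => by
      rcases (cA_ne_two _ _).1 h4 with h5 | h5 | h5
      · exact Or.inl h5.symm
      · exact Or.inr (Or.inl h5.symm)
      · exact Or.inr (Or.inr h5))
    (fun i hi _ => by
      have := i.2
      rcases (show (i : ℕ) = n - 1 ∨ (i : ℕ) = n - 2 by omega) with h4 | h4
      · rw [show i = ⟨n - 1, hl⟩ from Fin.ext h4]
        exact e1
      · rw [show i = ⟨n - 2, hm⟩ from Fin.ext h4]
        exact e2)
  exact Equiv.ext fun i => h3 i (by have := i.2; omega)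

theorem aut_B (n : ℕ) (σ : Equiv.Perm (Fin n))
    (hσ : ∀ i j, CoxeterMatrix.B n (σ i) (σ j) = CoxeterMatrix.B n i j) (r : ℕ)
    (hr : r.Prime) (h2 : r ≠ 2) (h : σ ^ r = 1) : σ = 1 := by
  rcases Nat.lt_or_ge n 2 with hn | hn
  · have : Subsingleton (Fin n) := by
      rw [Fin.subsingleton_iff_le_one]
      omega
    exact Equiv.ext fun x => Subsingleton.elim _ _
  have hl : n - 1 < n := by omega
  have hm : n - 2 < n := by omega
  have h4 : ∀ i j : Fin n, CoxeterMatrix.B n i j = 4 → (i : ℕ) = n - 1 ∧ (j : ℕ) = n - 2 ∨ (j : ℕ) = n - 1 ∧ (i : ℕ) = n - 2 := by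
    intro i j hij
    rw [cB_apply] at hij
    by_contra hno
    rw [if_neg hno] at hij
    split_ifs at hij <;> omega
  have h5 : CoxeterMatrix.B n ⟨n - 1, hl⟩ ⟨n - 2, hm⟩ = 4 := by
    rw [cB_apply, if_neg (by rw [Fin.ext_iff]; show ¬ n - 1 = n - 2; omega), if_pos (Or.inl ⟨rfl, rfl⟩)]
  have h6 := h4 (σ ⟨n - 1, hl⟩) (σ ⟨n - 2, hm⟩) (by rw [hσ]; exact h5)
  have hp := fix_pair hr h2 h (a := ⟨n - 1, hl⟩) (b := ⟨n - 2, hm⟩)
    (h6.imp (fun h7 => Fin.ext h7.1) (fun h7 => Fin.ext h7.2))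
    (h6.symm.imp (fun h7 => Fin.ext h7.1) (fun h7 => Fin.ext h7.2))
  have h3 := fix_path (M := CoxeterMatrix.B n) hσ (n - 1) hl (fun i j hij _ => (cB_ne_two _ _).2 (Or.inr (Or.inl hij)))
    (fun i j _ _ h4 => by
      rcases (cB_ne_two _ _).1 h4 with h5 | h5 | h5
      · exact Or.inl h5.symm
      · exact Or.inr (Or.inl h5.symm)
      · exact Or.inr (Or.inr h5))
    (fun i hi _ => by
      have := i.2
      rcases (show (i : ℕ) = n - 1 ∨ (i : ℕ) = n - 2 by omega) with h4 | h4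
      · rw [show i = ⟨n - 1, hl⟩ from Fin.ext h4]
        exact hp.1
      · rw [show i = ⟨n - 2, hm⟩ from Fin.ext h4]
        exact hp.2)
  exact Equiv.ext fun i => h3 i (by have := i.2; omega)

/-- the branch node of `D_{n+2}` -/
theorem fix_branch {n : ℕ} (hn : 2 ≤ n) (σ : Equiv.Perm (Fin (n + 2))) (hσ : ∀ i j, TypeD.M n (σ i) (σ j) = TypeD.M n i j) :
    σ ⟨n - 1, by omega⟩ = ⟨n - 1, by omega⟩ := by
  by_contra hcon
  set c : Fin (n + 2) := ⟨n - 1, by omega⟩ with hc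
  have hcv : (c : ℕ) = n - 1 := rfl
  -- three neighbours
  have hk : ∀ j : Fin (n + 2), TypeD.M n c j ≠ 2 → TypeD.M n (σ c) (σ j) ≠ 2 := fun j hj => by rw [hσ]; exact hj
  have h1 := (cD_ne_two _ _).1 (hk ⟨n - 2, by omega⟩ ((cD_ne_two _ _).2 (Or.inr (Or.inr (Or.inl
    ⟨by omega, by show n - 2 + 1 = (c : ℕ); omega⟩)))))
  have h2 := (cD_ne_two _ _).1 (hk ⟨n, by omega⟩ ((cD_ne_two _ _).2 (Or.inr (Or.inl (Or.inl
    ⟨by show n < n + 1; omega, by show (c : ℕ) + 1 = n; omega⟩)))))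
  have h3 := (cD_ne_two _ _).1 (hk ⟨n + 1, by omega⟩ ((cD_ne_two _ _).2 (Or.inr (Or.inl (Or.inr
    ⟨by show n + 1 = n + 1; omega, by show (c : ℕ) + 2 = n + 1; omega⟩)))))
  have d : ∀ i j : Fin (n + 2), i ≠ j → (σ i : ℕ) ≠ σ j := fun i j hij h5 => hij (σ.injective (Fin.ext h5))
  have d0 : (σ c : ℕ) ≠ c := fun h5 => hcon (Fin.ext h5)
  have d1 := d c ⟨n - 2, by omega⟩ (by rw [Ne, Fin.ext_iff]; show ¬ (c : ℕ) = n - 2; omega)
  have d2 := d c ⟨n, by omega⟩ (by rw [Ne, Fin.ext_iff]; show ¬ (c : ℕ) = n; omega)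
  have d3 := d c ⟨n + 1, by omega⟩ (by rw [Ne, Fin.ext_iff]; show ¬ (c : ℕ) = n + 1; omega)
  have d4 := d ⟨n - 2, by omega⟩ ⟨n, by omega⟩ (by rw [Ne, Fin.ext_iff]; show ¬ n - 2 = n; omega)
  have d5 := d ⟨n - 2, by omega⟩ ⟨n + 1, by omega⟩ (by rw [Ne, Fin.ext_iff]; show ¬ n - 2 = n + 1; omega)
  have d6 := d ⟨n, by omega⟩ ⟨n + 1, by omega⟩ (by rw [Ne, Fin.ext_iff]; show ¬ n = n + 1; omega)
  have b0 := (σ c).2
  have b1 := (σ ⟨n - 2, by omega⟩ : Fin (n + 2)).2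
  have b2 := (σ ⟨n, by omega⟩ : Fin (n + 2)).2
  have b3 := (σ ⟨n + 1, by omega⟩ : Fin (n + 2)).2
  unfold TypeD.Adj at h1 h2 h3
  rw [Fin.ext_iff] at h1 h2 h3
  omega

theorem aut_D (n : ℕ) (hn : 3 ≤ n) (σ : Equiv.Perm (Fin (n + 2))) (hσ : ∀ i j, TypeD.M n (σ i) (σ j) = TypeD.M n i j)
    (r : ℕ) (hr : r.Prime) (h2 : r ≠ 2) (h : σ ^ r = 1) : σ = 1 := by
  have hc := fix_branch (by omega) σ hσ
  -- neighbours of the branch node
  have hnb : ∀ i : Fin (n + 2), (i : ℕ) = n - 2 ∨ (i : ℕ) = n ∨ (i : ℕ) = n + 1 →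
      (σ i : ℕ) = n - 2 ∨ (σ i : ℕ) = n ∨ (σ i : ℕ) = n + 1 := by
    intro i hi
    have h3 : TypeD.M n ⟨n - 1, by omega⟩ (σ i) ≠ 2 := by
      have h4 := hσ ⟨n - 1, by omega⟩ i
      rw [hc] at h4
      rw [h4, cD_ne_two]
      unfold TypeD.Adj
      rcases hi with h5 | h5 | h5
      · exact Or.inr (Or.inr (Or.inl ⟨by show n - 1 < n + 1; omega, by show (i : ℕ) + 1 = n - 1; omega⟩))
      · exact Or.inr (Or.inl (Or.inl ⟨by omega, by show n - 1 + 1 = (i : ℕ); omega⟩))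
      · exact Or.inr (Or.inl (Or.inr ⟨h5, by show n - 1 + 2 = (i : ℕ); omega⟩))
    have h4 : σ i ≠ ⟨n - 1, by omega⟩ := by
      intro h5
      have h6 := congrArg Fin.val (σ.injective (h5.trans hc.symm))
      have : (i : ℕ) = n - 1 := h6
      omega
    have h5 : (σ i : ℕ) ≠ n - 1 := fun h6 => h4 (Fin.ext h6)
    rw [cD_ne_two, Fin.ext_iff] at h3
    unfold TypeD.Adj at h3
    simp only at h3
    omega
  -- the two leaves
  have hlf : ∀ i : Fin (n + 2), (i : ℕ) = n ∨ (i : ℕ) = n + 1 → (σ i : ℕ) = n ∨ (σ i : ℕ) = n + 1 := by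
    intro i hi
    rcases hnb i (Or.inr hi) with h3 | h3 | h3
    · exfalso
      -- the preimage of `n - 3` is a neighbour of `i`
      have h4 : TypeD.M n i (σ.symm ⟨n - 3, by omega⟩) ≠ 2 := by
        rw [← hσ, Equiv.apply_symm_apply, cD_ne_two]
        exact Or.inr (Or.inr (Or.inl ⟨by omega, by show n - 3 + 1 = (σ i : ℕ); omega⟩))
      have h5 : (σ.symm ⟨n - 3, by omega⟩ : Fin (n + 2)) ≠ i := by
        intro h6
        have h7 := congrArg Fin.val (congrArg σ h6)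
        rw [Equiv.apply_symm_apply] at h7
        have : n - 3 = (σ i : ℕ) := h7
        omega
      have h6 : (σ.symm ⟨n - 3, by omega⟩ : Fin (n + 2)) ≠ ⟨n - 1, by omega⟩ := by
        intro h6
        have h7 := congrArg Fin.val (congrArg σ h6)
        rw [Equiv.apply_symm_apply, hc] at h7
        have : n - 3 = n - 1 := h7
        omega
      have h5' : ((σ.symm ⟨n - 3, by omega⟩ : Fin (n + 2)) : ℕ) ≠ i := fun h7 => h5 (Fin.ext h7)
      have h6' : ((σ.symm ⟨n - 3, by omega⟩ : Fin (n + 2)) : ℕ) ≠ n - 1 := fun h7 => h6 (Fin.ext h7)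
      have := (σ.symm ⟨n - 3, by omega⟩ : Fin (n + 2)).2
      rw [cD_ne_two, Fin.ext_iff] at h4
      unfold TypeD.Adj at h4
      omega
    · exact Or.inl h3
    · exact Or.inr h3
  have hp := fix_pair hr h2 h (a := (⟨n, by omega⟩ : Fin (n + 2))) (b := ⟨n + 1, by omega⟩)
    ((hlf _ (Or.inl rfl)).imp (fun h7 => Fin.ext h7) (fun h7 => Fin.ext h7))
    ((hlf _ (Or.inr rfl)).imp (fun h7 => Fin.ext h7) (fun h7 => Fin.ext h7))
  have e2 : σ ⟨n - 2, by omega⟩ = ⟨n - 2, by omega⟩ := by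
    rcases hnb ⟨n - 2, by omega⟩ (Or.inl rfl) with h3 | h3 | h3
    · exact Fin.ext h3
    · exfalso
      have h4 : σ ⟨n - 2, by omega⟩ = ⟨n, by omega⟩ := Fin.ext h3
      have h6 := congrArg Fin.val (σ.injective (h4.trans hp.1.symm))
      have : n - 2 = n := h6
      omega
    · exfalso
      have h4 : σ ⟨n - 2, by omega⟩ = ⟨n + 1, by omega⟩ := Fin.ext h3
      have h6 := congrArg Fin.val (σ.injective (h4.trans hp.2.symm))
      have : n - 2 = n + 1 := h6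
      omega
  have h3 := fix_path (M := TypeD.M n) hσ (n - 1) (by omega) (fun i j hij hj => by
      rw [cD_ne_two]
      exact Or.inr (Or.inl (Or.inl ⟨by omega, hij⟩)))
    (fun i j hi hi' h4 => by
      rw [cD_ne_two, Fin.ext_iff] at h4
      rw [Fin.ext_iff]
      unfold TypeD.Adj at h4
      omega)
    (fun i hi hi' => by
      rcases (show (i : ℕ) = n - 1 ∨ (i : ℕ) = n - 2 by omega) with h4 | h4
      · rw [show i = ⟨n - 1, by omega⟩ from Fin.ext h4]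
        exact hc
      · rw [show i = ⟨n - 2, by omega⟩ from Fin.ext h4]
        exact e2)
  refine Equiv.ext fun i => ?_
  have := i.2
  rcases (show (i : ℕ) ≤ n - 1 ∨ (i : ℕ) = n ∨ (i : ℕ) = n + 1 by omega) with h4 | h4 | h4
  · exact h3 i h4
  · rw [show i = ⟨n, by omega⟩ from Fin.ext h4]
    exact hp.1
  · rw [show i = ⟨n + 1, by omega⟩ from Fin.ext h4]
    exact hp.2

theorem aut_D4 (σ : Equiv.Perm (Fin 4)) (_hσ : ∀ i j, TypeD.M 2 (σ i) (σ j) = TypeD.M 2 i j)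
    (r : ℕ) (hr : r.Prime) (h2 : r ≠ 2) (h3 : r ≠ 3) (h : σ ^ r = 1) : σ = 1 := by
  have h5 : 4 < r := by
    have := hr.two_le
    have : r ≠ 4 := by rintro rfl; exact absurd hr (by norm_num)
    omega
  refine Equiv.ext fun i => fix_of_card hr h Finset.univ (fun _ _ => Finset.mem_univ _) ?_ i (Finset.mem_univ _)
  rw [Finset.card_univ, Fintype.card_fin]
  exact h5

/-! ### no central node -/

theorem nstar {l : ℕ} {M : CoxeterMatrix (Fin l)} (a b : Fin l → Fin l)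
    (h : ∀ c, a c ≠ c ∧ b c ≠ c ∧ a c ≠ b c ∧ M (a c) (b c) ≠ 2) :
    ¬ ∃ c, ∀ i j, i ≠ c → j ≠ c → i ≠ j → M i j = 2 := by
  rintro ⟨c, hc⟩
  obtain ⟨h1, h2, h3, h4⟩ := h c
  exact h4 (hc _ _ h1 h2 h3)

/-- Two disjoint bonds. -/
theorem nstar_of_two {l : ℕ} {M : CoxeterMatrix (Fin l)} (a b a' b' : Fin l) (h1 : a ≠ b) (h2 : a' ≠ b')
    (h3 : M a b ≠ 2) (h4 : M a' b' ≠ 2) (h5 : a ≠ a') (h6 : a ≠ b') (h7 : b ≠ a') (h8 : b ≠ b') :
    ¬ ∃ c, ∀ i j, i ≠ c → j ≠ c → i ≠ j → M i j = 2 := by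
  rintro ⟨c, hc⟩
  by_cases e : a = c ∨ b = c
  · refine h4 (hc a' b' ?_ ?_ h2)
    · rintro rfl
      rcases e with e | e
      · exact h5 e
      · exact h7 e
    · rintro rfl
      rcases e with e | e
      · exact h6 e
      · exact h8 e
  · push Not at e
    exact h3 (hc a b e.1 e.2 h1)

theorem star_A (n : ℕ) (hn : 4 ≤ n) : ¬ ∃ c, ∀ i j, i ≠ c → j ≠ c → i ≠ j → cA n i j = 2 := by
  have hne : ∀ a b : ℕ, ∀ ha : a < n, ∀ hb : b < n, a ≠ b → (⟨a, ha⟩ : Fin n) ≠ ⟨b, hb⟩ := fun a b ha hb h e =>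
    h (congrArg Fin.val e)
  exact nstar_of_two ⟨0, by omega⟩ ⟨1, by omega⟩ ⟨2, by omega⟩ ⟨3, by omega⟩ (hne _ _ _ _ (by norm_num))
    (hne _ _ _ _ (by norm_num)) ((cA_ne_two _ _).2 (Or.inr (Or.inl rfl))) ((cA_ne_two _ _).2 (Or.inr (Or.inl rfl)))
    (hne _ _ _ _ (by norm_num)) (hne _ _ _ _ (by norm_num)) (hne _ _ _ _ (by norm_num)) (hne _ _ _ _ (by norm_num))

theorem star_B (n : ℕ) (hn : 4 ≤ n) :
    ¬ ∃ c, ∀ i j, i ≠ c → j ≠ c → i ≠ j → CoxeterMatrix.B n i j = 2 := by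
  have hne : ∀ a b : ℕ, ∀ ha : a < n, ∀ hb : b < n, a ≠ b → (⟨a, ha⟩ : Fin n) ≠ ⟨b, hb⟩ := fun a b ha hb h e =>
    h (congrArg Fin.val e)
  exact nstar_of_two ⟨0, by omega⟩ ⟨1, by omega⟩ ⟨2, by omega⟩ ⟨3, by omega⟩ (hne _ _ _ _ (by norm_num))
    (hne _ _ _ _ (by norm_num)) ((cB_ne_two _ _).2 (Or.inr (Or.inl rfl))) ((cB_ne_two _ _).2 (Or.inr (Or.inl rfl)))
    (hne _ _ _ _ (by norm_num)) (hne _ _ _ _ (by norm_num)) (hne _ _ _ _ (by norm_num)) (hne _ _ _ _ (by norm_num))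

theorem star_D (n : ℕ) (hn : 3 ≤ n) : ¬ ∃ c, ∀ i j, i ≠ c → j ≠ c → i ≠ j → TypeD.M n i j = 2 := by
  have hne : ∀ a b : ℕ, ∀ ha : a < n + 2, ∀ hb : b < n + 2, a ≠ b → (⟨a, ha⟩ : Fin (n + 2)) ≠ ⟨b, hb⟩ :=
    fun a b ha hb h e => h (congrArg Fin.val e)
  exact nstar_of_two ⟨0, by omega⟩ ⟨1, by omega⟩ ⟨2, by omega⟩ ⟨3, by omega⟩ (hne _ _ _ _ (by norm_num))
    (hne _ _ _ _ (by norm_num)) ((cD_ne_two _ _).2 (Or.inr (Or.inl (Or.inl ⟨by show 1 < n + 1; omega, rfl⟩))))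
    ((cD_ne_two _ _).2 (Or.inr (Or.inl (Or.inl ⟨by show 3 < n + 1; omega, rfl⟩))))
    (hne _ _ _ _ (by norm_num)) (hne _ _ _ _ (by norm_num)) (hne _ _ _ _ (by norm_num)) (hne _ _ _ _ (by norm_num))

theorem star_E6 : ¬ ∃ c, ∀ i j, i ≠ c → j ≠ c → i ≠ j → CoxeterMatrix.E₆ i j = 2 :=
  nstar_of_two 0 2 4 5 (by decide) (by decide) (by decide) (by decide) (by decide) (by decide) (by decide) (by decide)

theorem star_E7 : ¬ ∃ c, ∀ i j, i ≠ c → j ≠ c → i ≠ j → CoxeterMatrix.E₇ i j = 2 :=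
  nstar_of_two 0 2 4 5 (by decide) (by decide) (by decide) (by decide) (by decide) (by decide) (by decide) (by decide)

theorem star_E8 : ¬ ∃ c, ∀ i j, i ≠ c → j ≠ c → i ≠ j → CoxeterMatrix.E₈ i j = 2 :=
  nstar_of_two 0 2 4 5 (by decide) (by decide) (by decide) (by decide) (by decide) (by decide) (by decide) (by decide)

theorem star_F4 : ¬ ∃ c, ∀ i j, i ≠ c → j ≠ c → i ≠ j → CoxeterMatrix.F₄ i j = 2 :=
  nstar_of_two 0 1 2 3 (by decide) (by decide) (by decide) (by decide) (by decide) (by decide) (by decide) (by decide)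

/-! ### rank three, `D₄` -/

/-- two bonds meeting in the node `m` -/
theorem mid_of_two {l : ℕ} {M : CoxeterMatrix (Fin l)} {c : Fin l} (hc : ∀ i j, i ≠ c → j ≠ c → i ≠ j → M i j = 2)
    (a m b : Fin l) (h1 : a ≠ m) (h2 : b ≠ m) (h3 : M a m ≠ 2) (h4 : M b m ≠ 2) (h5 : a ≠ b) : c = m := by
  by_contra h6
  have h7 : m ≠ c := fun e => h6 e.symm
  by_cases e : a = c
  · exact h4 (hc b m (by rintro rfl; exact h5 e) h7 h2)
  · exact h3 (hc a m e h7 h1)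

theorem mid_A3 {c : Fin 3} (hc : ∀ i j, i ≠ c → j ≠ c → i ≠ j → cA 3 i j = 2) : c = 1 :=
  mid_of_two hc 0 1 2 (by decide) (by decide) (by decide) (by decide) (by decide)

theorem mid_B3 {c : Fin 3} (hc : ∀ i j, i ≠ c → j ≠ c → i ≠ j → CoxeterMatrix.B 3 i j = 2) : c = 1 :=
  mid_of_two hc 0 1 2 (by decide) (by decide) (by decide) (by decide) (by decide)

theorem mid_D4 {c : Fin 4} (hc : ∀ i j, i ≠ c → j ≠ c → i ≠ j → TypeD.M 2 i j = 2) : c = 1 :=
  mid_of_two hc 0 1 2 (by decide) (by decide) (by decide) (by decide) (by decide)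

theorem even_B2 : Even (CoxeterMatrix.B 2 0 1) := ⟨2, by decide⟩

theorem even_G2 : Even (CoxeterMatrix.G₂ 0 1) := ⟨3, by decide⟩

end Cfsg.Agent.H538.MFacts
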