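import Mathlib
import Cfsg.Agent.S0205
import Cfsg.Agent.S3861

/-!
# 2-closed groups are solvable (helper538)
-/

set_option autoImplicit false

namespace Cfsg.Agent.H538.TwoClosed

theorem solvable_of_normal_sylow {H : Type*} [Group H] [Finite H] (P : Sylow 2 H)
    (hn : (P : Subgroup H).Normal) : Group.IsSolvable H := by
  rw [Group.isSolvable_iff_subgroup_quotient (P : Subgroup H)]
  constructor
  · have := P.isPGroup'.isNilpotent
    infer_instance
  · apply Cfsg.Agent.S0205.result
    rw [← Nat.not_even_iff_odd, even_iff_two_dvd]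
    exact P.not_dvd_index

/-- a finite group without real elements `≠ 1` of odd order is solvable -/
theorem solvable_of_no_real {H : Type*} [Group H] [Finite H]
    (h : ∀ x t : H, Odd (orderOf x) → t * x * t⁻¹ = x⁻¹ → x = 1) : Group.IsSolvable H := by
  obtain ⟨P⟩ : Nonempty (Sylow 2 H) := inferInstance
  apply solvable_of_normal_sylow P
  rw [← Cfsg.Agent.S3861.result P]
  intro x hx1 hxo hxr
  obtain ⟨t, ht⟩ := isConj_iff.1 hxr
  exact hx1 (h x t hxo ht)

/-- extensions of solvable groups, elementwise form -/
theorem solvable_of_ker {G H : Type*} [Group G] [Group H] (f : G →* H) (h1 : Group.IsSolvable f.ker)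
    (h2 : Group.IsSolvable f.range) : Group.IsSolvable G := by
  refine Group.isSolvable_of_ker_le_range f.ker.subtype f.rangeRestrict ?_
  rw [MonoidHom.ker_rangeRestrict, Subgroup.range_subtype]

end Cfsg.Agent.H538.TwoClosed
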