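import Mathlib
import Cfsg.Agent.H952.RcCyc

/-!
# Cyclic `p`-subgroups of `GL(V)`, `dim V < 2 e` (helper538)

`F` a finite field, `p` a prime different from the characteristic, `e` the order of `|F|` modulo `p`:
* `dvd_finrank` : `e` divides the dimension of a space on which an element of order `p` has no fixed vectors;
* `isCyclic_of_lt` : the `p`-subgroups of `GL(V)` are cyclic if `dim V < 2 e`;
* `isCyclic_of_hom` : the same for a `p`-group with an injective homomorphism to `GL (Fin n) F`, `n < 2 e`.
-/

set_option autoImplicit false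
set_option linter.unusedSectionVars false

namespace Cfsg.Agent.H538.GlCyc

open Module Cfsg.Agent.H952.Rc

universe u v

variable {F : Type u} [Field F] [Finite F] {V : Type v} [AddCommGroup V] [Module F V] [FiniteDimensional F V]
  {p : ℕ} [hp : Fact p.Prime]

/-- an element of order `p` without fixed vectors -/
theorem dvd_finrank {T : V →ₗ[F] V} (hT : T ^ p = 1) (hfix : ∀ v, T v = v → v = 0) :
    orderOf ((Nat.card F : ℕ) : ZMod p) ∣ finrank F V := by
  classical
  have hVf : Finite V := Module.finite_of_finite F
  have := Fintype.ofFinite V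
  let f : Function.End V := fun v => T v
  have hpow : ∀ n : ℕ, ∀ v, (f ^ n) v = (T ^ n) v := by
    intro n
    induction n with
    | zero => intro v; rfl
    | succ n ih =>
      intro v
      rw [pow_succ', pow_succ', Module.End.mul_apply, ← ih]
      rfl
  have hf : f ^ p ^ 1 = 1 := by
    funext v
    rw [pow_one, hpow, hT]
    rfl
  have h1 := Equiv.Perm.card_fixedPoints_modEq hf
  have h2 : Fintype.card f.fixedPoints = 1 := by
    rw [Fintype.card_eq_one_iff]
    refine ⟨⟨0, map_zero T⟩, fun x => Subtype.ext (hfix _ x.2)⟩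
  rw [h2, ← Nat.card_eq_fintype_card, Module.natCard_eq_pow_finrank (K := F)] at h1
  rw [orderOf_dvd_iff_pow_eq_one]
  have h3 := (ZMod.natCast_eq_natCast_iff _ _ _).2 h1
  push_cast at h3
  exact h3

/-- an element of order `p` acts on `[V, T]` without fixed vectors -/
theorem eq_zero_of_range (hpF : (p : F) ≠ 0) {T : V →ₗ[F] V} (hT : T ^ p = 1) {v : V}
    (hv : v ∈ LinearMap.range (T - 1)) (hfix : T v = v) : v = 0 := by
  obtain ⟨u, rfl⟩ := hv
  have h1 : T u = u + (T - 1) u := by
    rw [LinearMap.sub_apply, Module.End.one_apply]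
    abel
  have h2 : ∀ n : ℕ, (T ^ n) u = u + n • (T - 1) u := by
    intro n
    induction n with
    | zero => simp
    | succ n ih =>
      rw [pow_succ', Module.End.mul_apply, ih, map_add, map_nsmul, hfix, h1, succ_nsmul]
      abel
  have h3 := h2 p
  rw [hT, Module.End.one_apply] at h3
  have h4 : p • (T - 1) u = 0 := by
    have := h3.symm
    rwa [add_eq_left] at this
  rw [← Nat.cast_smul_eq_nsmul F] at h4
  exact (smul_eq_zero.1 h4).resolve_left hpF

/-- the dimension of a `T`-invariant subspace without fixed vectors -/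
theorem dvd_finrank_sub {T : V →ₗ[F] V} (hT : T ^ p = 1) (U : Submodule F V) (hU : ∀ u ∈ U, T u ∈ U)
    (hfix : ∀ v ∈ U, T v = v → v = 0) : orderOf ((Nat.card F : ℕ) : ZMod p) ∣ finrank F U := by
  refine dvd_finrank (T := T.restrict hU) ?_ ?_
  · rw [Module.End.pow_restrict]
    ext u
    simp [hT]
  · intro v hv
    apply Subtype.ext
    exact hfix v v.2 (congrArg Subtype.val hv)

theorem range_inv (T : V →ₗ[F] V) (u : V) (hu : u ∈ LinearMap.range (T - 1)) : T u ∈ LinearMap.range (T - 1) := by
  obtain ⟨w, rfl⟩ := hu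
  refine ⟨T w, ?_⟩
  simp

theorem dvd_finrank_range (hpF : (p : F) ≠ 0) {T : V →ₗ[F] V} (hT : T ^ p = 1) :
    orderOf ((Nat.card F : ℕ) : ZMod p) ∣ finrank F (LinearMap.range (T - 1)) :=
  dvd_finrank_sub hT _ (range_inv T) fun _ hv hfix => eq_zero_of_range hpF hT hv hfix

theorem le_finrank_range (hpF : (p : F) ≠ 0) {T : V →ₗ[F] V} (hT : T ^ p = 1) (hT1 : T ≠ 1) :
    orderOf ((Nat.card F : ℕ) : ZMod p) ≤ finrank F (LinearMap.range (T - 1)) := by
  refine Nat.le_of_dvd ?_ (dvd_finrank_range hpF hT)
  rw [Nat.pos_iff_ne_zero]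
  intro h0
  apply hT1
  have h1 := Submodule.finrank_eq_zero.1 h0
  rw [LinearMap.range_eq_bot, sub_eq_zero] at h1
  exact h1

/-- **`p`-subgroups of `GL(V)` are cyclic for `dim V < 2 e`.** -/
theorem isCyclic_of_lt (hpF : (p : F) ≠ 0) (hn : finrank F V < 2 * orderOf ((Nat.card F : ℕ) : ZMod p))
    {P : Subgroup (V ≃ₗ[F] V)} (hP : IsPGroup p P) : IsCyclic P := by
  have hVf : Finite V := Module.finite_of_finite F
  have hf0 : Finite (V ≃ₗ[F] V) := Finite.of_injective (fun h : V ≃ₗ[F] V => (h : V → V)) DFunLike.coe_injective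
  rcases subsingleton_or_nontrivial P with hsub | hnt
  · infer_instance
  have hc := hP.center_nontrivial
  have hcp : IsPGroup p (Subgroup.center P) := hP.to_subgroup _
  have hdvd : p ∣ Nat.card (Subgroup.center P) := by
    obtain ⟨n, hn⟩ := hcp.exists_card_eq
    rcases Nat.eq_zero_or_pos n with h0 | h0
    · rw [h0, pow_zero] at hn
      exact absurd hn (Finite.one_lt_card).ne'
    · rw [hn]
      exact dvd_pow_self p h0.ne'
  obtain ⟨z, hz⟩ := exists_prime_orderOf_dvd_card' p hdvd
  -- the linear map of an element of `P`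
  let L : P →* (V →ₗ[F] V) :=
    { toFun := fun h => (h : V ≃ₗ[F] V).toLinearMap
      map_one' := rfl
      map_mul' := fun _ _ => rfl }
  have hLinj : ∀ x : P, L x = 1 → x = 1 := by
    intro x hx
    apply Subtype.ext
    apply LinearEquiv.ext
    intro v
    exact LinearMap.congr_fun hx v
  set Z : V →ₗ[F] V := L z with hZdef
  have hZ : Z ^ p = 1 := by
    rw [hZdef, ← map_pow]
    have h1 : z ^ p = 1 := by rw [← hz, pow_orderOf_eq_one]
    have h2 : ((z : P)) ^ p = 1 := by
      have := congrArg Subtype.val h1
      simpa using this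
    rw [h2, map_one]
  have hZ1 : Z ≠ 1 := by
    intro h
    have h1 : z = 1 := Subtype.ext (hLinj _ h)
    rw [h1, orderOf_one] at hz
    exact hp.out.one_lt.ne hz
  set R : Submodule F V := LinearMap.range (Z - 1) with hR
  have hRdim : orderOf ((Nat.card F : ℕ) : ZMod p) ≤ finrank F R := le_finrank_range hpF hZ hZ1
  have hVR : finrank F R ≤ finrank F V := Submodule.finrank_le R
  have hpos : 0 < orderOf ((Nat.card F : ℕ) : ZMod p) := by
    by_contra h
    push Not at h
    omega
  have hRne : Nontrivial R := by
    apply Module.nontrivial_of_finrank_pos (R := F)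
    omega
  have hinv : ∀ h : P, ∀ u ∈ R, L h u ∈ R := by
    rintro h _ ⟨w, rfl⟩
    refine ⟨L h w, ?_⟩
    have h1 : L h * Z = Z * L h := by
      rw [hZdef, ← map_mul, ← map_mul]
      congr 1
      exact Subgroup.mem_center_iff.1 z.2 h
    have h2 := LinearMap.congr_fun h1 w
    rw [Module.End.mul_apply, Module.End.mul_apply] at h2
    rw [LinearMap.sub_apply, LinearMap.sub_apply, Module.End.one_apply, Module.End.one_apply, map_sub, h2]
  let ρ0 : P →* (R →ₗ[F] R) :=
    { toFun := fun h => (L h).restrict (hinv h)
      map_one' := by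
        ext u
        rfl
      map_mul' := by
        intro a b
        ext u
        rfl }
  let ρ : P →* (R ≃ₗ[F] R) := (LinearMap.GeneralLinearGroup.generalLinearEquiv F R).toMonoidHom.comp
    (MonoidHom.toHomUnits ρ0)
  have hρ : ∀ (h : P) (u : R), ((ρ h u : R) : V) = L h u := fun h u => rfl
  have hinj : Function.Injective ρ := by
    rw [injective_iff_map_eq_one]
    by_contra hcon
    push Not at hcon
    obtain ⟨x, hx, hx1⟩ := hcon
    have hk : Nontrivial ρ.ker := ⟨⟨x, hx⟩, 1, fun h => hx1 (congrArg Subtype.val h)⟩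
    have hkp : IsPGroup p ρ.ker := hP.to_subgroup _
    have hdvd : p ∣ Nat.card ρ.ker := by
      obtain ⟨n, hn⟩ := hkp.exists_card_eq
      rcases Nat.eq_zero_or_pos n with h0 | h0
      · rw [h0, pow_zero] at hn
        exact absurd hn (Finite.one_lt_card).ne'
      · rw [hn]
        exact dvd_pow_self p h0.ne'
    obtain ⟨y, hy⟩ := exists_prime_orderOf_dvd_card' p hdvd
    set Y : V →ₗ[F] V := L y with hYdef
    have hY : Y ^ p = 1 := by
      rw [hYdef, ← map_pow]
      have h1 : y ^ p = 1 := by rw [← hy, pow_orderOf_eq_one]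
      have h2 : ((y : P)) ^ p = 1 := by
        have := congrArg Subtype.val h1
        simpa using this
      rw [h2, map_one]
    have hY1 : Y ≠ 1 := by
      intro h
      have h1 : y = 1 := Subtype.ext (hLinj _ h)
      rw [h1, orderOf_one] at hy
      exact hp.out.one_lt.ne hy
    have h1 := le_finrank_range hpF hY hY1
    have h2 : R ≤ LinearMap.ker (Y - 1) := by
      intro u hu
      rw [LinearMap.mem_ker, LinearMap.sub_apply, Module.End.one_apply, sub_eq_zero]
      have h3 : ρ y = 1 := y.2
      have h4 := hρ y ⟨u, hu⟩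
      rw [h3] at h4
      exact h4.symm
    have h3 := Submodule.finrank_mono h2
    have h4 := LinearMap.finrank_range_add_finrank_ker (Y - 1)
    omega
  -- `z` acts irreducibly on `R`
  have hcyc : IsCyclic ρ.range := by
    refine isCyclic_of_isPGroup (V := R) (p := p) hpF (g := Z.restrict (range_inv Z)) ?_ ?_ ?_
      (hP.of_surjective ρ.rangeRestrict ρ.rangeRestrict_surjective)
    · rw [Module.End.pow_restrict]
      ext u
      simp [hZ]
    · intro h
      obtain ⟨r, hr⟩ := exists_ne (0 : R)
      apply hr
      apply Subtype.ext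
      refine eq_zero_of_range hpF hZ r.2 ?_
      exact congrArg Subtype.val (LinearMap.congr_fun h r)
    · intro W hW
      by_contra hcon
      push Not at hcon
      have h1 : orderOf ((Nat.card F : ℕ) : ZMod p) ∣ finrank F W := by
        refine dvd_finrank_sub (T := Z.restrict (range_inv Z)) ?_ W hW ?_
        · rw [Module.End.pow_restrict]
          ext u
          simp [hZ]
        · intro v _ hv
          apply Subtype.ext
          exact eq_zero_of_range hpF hZ v.2 (congrArg Subtype.val hv)
      have h2 : orderOf ((Nat.card F : ℕ) : ZMod p) ∣ finrank F R := dvd_finrank_range hpF hZ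
      have h3 : 0 < finrank F W := by
        rw [Nat.pos_iff_ne_zero]
        intro h0
        exact hcon.1 (Submodule.finrank_eq_zero.1 h0)
      have h4 : finrank F W < finrank F R := Submodule.finrank_lt hcon.2
      obtain ⟨a, ha⟩ := h1
      obtain ⟨b, hb⟩ := h2
      have ha0 : 0 < a := by
        rw [Nat.pos_iff_ne_zero]
        rintro rfl
        omega
      have hab : a < b := by
        by_contra h5
        push Not at h5
        have := Nat.mul_le_mul_left (orderOf ((Nat.card F : ℕ) : ZMod p)) h5
        omega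
      have h6 := Nat.mul_le_mul_left (orderOf ((Nat.card F : ℕ) : ZMod p)) (show 2 ≤ b by omega)
      omega
  exact isCyclic_of_injective ρ.rangeRestrict fun a b h => hinj (congrArg Subtype.val h)

/-- a `p`-group with an injective homomorphism to `GL_n(F)`, `n < 2 e` -/
theorem isCyclic_of_hom {n : ℕ} (hpF : (p : F) ≠ 0) (hn : n < 2 * orderOf ((Nat.card F : ℕ) : ZMod p))
    {P : Type*} [Group P] (hP : IsPGroup p P) (f : P →* GL (Fin n) F) (hf : Function.Injective f) : IsCyclic P := by
  let g : P →* ((Fin n → F) ≃ₗ[F] (Fin n → F)) :=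
    ((LinearMap.GeneralLinearGroup.generalLinearEquiv F (Fin n → F)).toMonoidHom.comp
      (Matrix.GeneralLinearGroup.toLin).toMonoidHom).comp f
  have hg : Function.Injective g :=
    ((LinearMap.GeneralLinearGroup.generalLinearEquiv F (Fin n → F)).injective.comp
      (Matrix.GeneralLinearGroup.toLin).injective).comp hf
  have h1 : IsCyclic g.range := isCyclic_of_lt hpF (by rwa [Module.finrank_fin_fun])
    (hP.of_surjective g.rangeRestrict g.rangeRestrict_surjective)
  exact isCyclic_of_injective g.rangeRestrict fun a b h => hg (congrArg Subtype.val h)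

end Cfsg.Agent.H538.GlCyc
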