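import Cfsg.Agent.H538.PrimePowerLift
import Cfsg.Agent.Lib.SolvableNormalP
import Cfsg.Agent.Lib.NormalHall

/-!
# Solvable groups without real elements of order `r` (helper538)

`not_dvd_card_closure` : if a finite solvable group has no non-trivial real element of order a power of
the odd prime `r`, the subgroup generated by the 2-elements has order prime to `r`.
-/

set_option autoImplicit false

namespace Cfsg.Agent.H538.NoRealP

universe u

/-- the subgroup generated by the 2-elements -/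
def twoGen (G : Type*) [Group G] : Subgroup G := Subgroup.closure {g : G | ∃ k : ℕ, orderOf g = 2 ^ k}

theorem mem_twoGen {G : Type*} [Group G] {g : G} {k : ℕ} (h : orderOf g = 2 ^ k) : g ∈ twoGen G :=
  Subgroup.subset_closure ⟨k, h⟩

theorem map_twoGen_le {G H : Type*} [Group G] [Group H] (f : G →* H) :
    (twoGen G).map f ≤ twoGen H := by
  rw [twoGen, Subgroup.map_le_iff_le_comap, Subgroup.closure_le]
  rintro g ⟨k, hk⟩
  rw [SetLike.mem_coe, Subgroup.mem_comap]
  have h1 : orderOf (f g) ∣ 2 ^ k := hk ▸ orderOf_map_dvd f g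
  obtain ⟨j, -, hj⟩ := (Nat.dvd_prime_pow Nat.prime_two).1 h1
  exact mem_twoGen hj

theorem twoGen_normal {G : Type*} [Group G] : (twoGen G).Normal := by
  constructor
  intro n hn g
  have h1 : (MulAut.conj g).toMonoidHom n ∈ twoGen G :=
    map_twoGen_le (MulAut.conj g).toMonoidHom ⟨n, hn, rfl⟩
  exact h1

/-- a 2-element acts trivially on a normal `r`-subgroup without real elements -/
theorem commute_of_no_real {G : Type*} [Group G] {r : ℕ} (N : Subgroup G) [hN : N.Normal]
    (hreal : ∀ x ∈ N, IsConj x x⁻¹ → x = 1) {s : G} :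
    ∀ k : ℕ, s ^ (2 ^ k) = 1 → ∀ n ∈ N, s * n * s⁻¹ = n := by
  have step : ∀ t : G, (∀ n ∈ N, (t * t) * n * (t * t)⁻¹ = n) → ∀ n ∈ N, t * n * t⁻¹ = n := by
    intro t ht n hn
    have hv : n⁻¹ * (t * n * t⁻¹) ∈ N := N.mul_mem (N.inv_mem hn) (hN.conj_mem n hn t)
    have h1 : t * (n⁻¹ * (t * n * t⁻¹)) * t⁻¹ = (n⁻¹ * (t * n * t⁻¹))⁻¹ := by
      calc t * (n⁻¹ * (t * n * t⁻¹)) * t⁻¹ = (t * n * t⁻¹)⁻¹ * ((t * t) * n * (t * t)⁻¹) := by group
        _ = (t * n * t⁻¹)⁻¹ * n := by rw [ht n hn]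
        _ = _ := by group
    have h2 := hreal _ hv (isConj_iff.2 ⟨t, h1⟩)
    rw [inv_mul_eq_one] at h2
    exact h2.symm
  intro k hk
  have key : ∀ j ≤ k, ∀ n ∈ N, s ^ (2 ^ (k - j)) * n * (s ^ (2 ^ (k - j)))⁻¹ = n := by
    intro j
    induction j with
    | zero => intro _ n hn; rw [Nat.sub_zero, hk]; simp
    | succ j ih =>
      intro hj
      apply step
      have h1 : s ^ (2 ^ (k - (j + 1))) * s ^ (2 ^ (k - (j + 1))) = s ^ (2 ^ (k - j)) := by
        rw [← pow_add, ← two_mul, ← pow_succ', show k - (j + 1) + 1 = k - j by omega]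
      rw [h1]
      exact ih (by omega)
  have := key k le_rfl
  simpa using this

theorem not_dvd_card_twoGen {r : ℕ} [hr : Fact r.Prime] (hr2 : r ≠ 2) (n : ℕ) :
    ∀ (G : Type u) [Group G] [Finite G], Nat.card G = n → Group.IsSolvable G →
      (∀ x : G, (∃ k : ℕ, orderOf x = r ^ k) → IsConj x x⁻¹ → x = 1) →
      ¬ r ∣ Nat.card (twoGen G) := by
  induction n using Nat.strong_induction_on with
  | _ n ih =>
  intro G _ _ hn hsol hreal hdvd
  rcases subsingleton_or_nontrivial G with hG | hG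
  · have h1 : Nat.card (twoGen G) = 1 := Nat.card_of_subsingleton (1 : twoGen G)
    rw [h1, Nat.dvd_one] at hdvd
    exact hr.1.one_lt.ne' hdvd
  obtain ⟨q, N, hq, hNn, hNq, -, hNbot⟩ :=
    Cfsg.Agent.Lib.SolvableNormalP.exists_normal_pSubgroup G
  have hcardlt : Nat.card (G ⧸ N) < n := by
    rw [← hn, ← N.card_mul_index]
    change N.index < Nat.card N * N.index
    have h1 : 1 < Nat.card N := (Subgroup.one_lt_card_iff_ne_bot N).2 hNbot
    have h2 : 0 < N.index := Nat.pos_of_ne_zero Subgroup.index_ne_zero_of_finite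
    nlinarith
  have hquot : ¬ r ∣ Nat.card (twoGen (G ⧸ N)) := by
    apply ih _ hcardlt (G ⧸ N) rfl inferInstance
    rintro x ⟨k, hk⟩ hx
    obtain ⟨y, hy, hyr, hyo⟩ := PrimePowerLift.exists_real_lift N hr2 hk hx
    rw [← hy, hreal y hyo hyr]
    rfl
  have hmap : ¬ r ∣ Nat.card ((twoGen G).map (QuotientGroup.mk' N)) := fun h =>
    hquot (h.trans (Subgroup.card_dvd_of_le (map_twoGen_le _)))
  -- N as a subgroup of K = twoGen G
  set K : Subgroup G := twoGen G with hK
  set M : Subgroup K := N.subgroupOf K with hM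
  have hMn : M.Normal := inferInstance
  have hMindex : M.index = Nat.card (K.map (QuotientGroup.mk' N)) := by
    have h1 : M = ((QuotientGroup.mk' N).comp K.subtype).ker := by
      ext x
      rw [hM, Subgroup.mem_subgroupOf, MonoidHom.mem_ker, MonoidHom.comp_apply]
      exact (QuotientGroup.eq_one_iff _).symm
    rw [h1, Subgroup.index_ker, MonoidHom.range_eq_map, ← Subgroup.map_map,
      ← MonoidHom.range_eq_map, Subgroup.range_subtype]
  have hMcard : Nat.card M ∣ Nat.card N := by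
    exact Subgroup.card_comap_dvd_of_injective N K.subtype K.subtype_injective
  have hr1 : r ∣ Nat.card M := by
    rw [← M.card_mul_index, hMindex] at hdvd
    exact (hr.1.dvd_mul.1 hdvd).resolve_right hmap
  have hqr : q = r := by
    haveI := Fact.mk hq
    obtain ⟨k, hk⟩ := IsPGroup.iff_card.1 hNq
    have h1 : r ∣ q ^ k := hk ▸ (hr1.trans hMcard)
    exact ((Nat.prime_dvd_prime_iff_eq hr.1 hq).1 (hr.1.dvd_of_dvd_pow h1)).symm
  subst hqr
  -- the 2-elements centralise N
  have hNreal : ∀ x ∈ N, IsConj x x⁻¹ → x = 1 := by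
    intro x hx hxr
    obtain ⟨k, hk⟩ := (IsPGroup.iff_orderOf.1 hNq) ⟨x, hx⟩
    exact hreal x ⟨k, by rwa [Subgroup.orderOf_mk] at hk⟩ hxr
  have hcent : K ≤ Subgroup.centralizer (N : Set G) := by
    rw [hK, twoGen, Subgroup.closure_le]
    rintro s ⟨k, hk⟩
    rw [SetLike.mem_coe, Subgroup.mem_centralizer_iff]
    intro m hm
    have h1 := commute_of_no_real (r := q) N hNreal k (by rw [← hk]; exact pow_orderOf_eq_one s) m hm
    calc m * s = (s * m * s⁻¹) * s := by rw [h1]
      _ = s * m := by group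
  -- M is central in K, of order prime to its index
  have hMcomm : ∀ m ∈ M, ∀ k : K, m * k = k * m := by
    intro m hm k
    apply Subtype.ext
    exact Subgroup.mem_centralizer_iff.1 (hcent k.2) m hm
  have hcop : (Nat.card M).Coprime M.index := by
    have h1 : IsPGroup q M := hNq.comap_subtype
    obtain ⟨k, hk⟩ := IsPGroup.iff_card.1 h1
    rw [hk, hMindex]
    exact Nat.Coprime.pow_left k ((Nat.Prime.coprime_iff_not_dvd hr.1).2 hmap)
  obtain ⟨H, hH⟩ := Subgroup.exists_right_complement'_of_coprime hcop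
  have hHn : H.Normal := by
    constructor
    intro h hh k
    have h1 : k ∈ ((M ⊔ H : Subgroup K)) := by rw [hH.sup_eq_top]; exact Subgroup.mem_top _
    rw [Subgroup.mem_sup_of_normal_left] at h1
    obtain ⟨m, hm, h', hh', rfl⟩ := h1
    have h2 : m * h' * h * (m * h')⁻¹ = h' * h * h'⁻¹ := by
      calc m * h' * h * (m * h')⁻¹ = m * (h' * h * h'⁻¹) * m⁻¹ := by group
        _ = (h' * h * h'⁻¹) * m * m⁻¹ := by rw [hMcomm m hm]
        _ = _ := by group
    rw [h2]
    exact H.mul_mem (H.mul_mem hh' hh) (H.inv_mem hh')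
  have hHindex : H.index = Nat.card M := hH.index_eq_card
  have hKH : K ≤ H.map K.subtype := by
    conv_lhs => rw [hK, twoGen]
    rw [Subgroup.closure_le]
    rintro s ⟨k, hk⟩
    have hsK : s ∈ K := mem_twoGen hk
    refine ⟨⟨s, hsK⟩, ?_, rfl⟩
    apply Cfsg.Agent.Lib.NormalHall.mem_of_orderOf_coprime_index H
    rw [Subgroup.orderOf_mk, hk, hHindex]
    have h1 : IsPGroup q M := hNq.comap_subtype
    obtain ⟨j, hj⟩ := IsPGroup.iff_card.1 h1
    rw [hj]
    exact Nat.Coprime.pow _ _ ((Nat.coprime_primes Nat.prime_two hr.1).2 (Ne.symm hr2))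
  have hHtop : H = ⊤ := by
    rw [eq_top_iff]
    rintro x -
    obtain ⟨y, hy, hyx⟩ := hKH x.2
    have : y = x := Subtype.ext hyx
    rwa [← this]
  rw [hHtop, Subgroup.index_top] at hHindex
  rw [← hHindex, Nat.dvd_one] at hr1
  exact hr.1.one_lt.ne' hr1

end Cfsg.Agent.H538.NoRealP
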