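import Cfsg.Agent.H538.RealBasics
import Cfsg.Agent.Lib.CoprimeCommutator
import Cfsg.Agent.S3863

/-!
# Lifting real elements of odd prime power order modulo an arbitrary normal subgroup (helper538)

* `exists_inverted_in_coset` : a 2-element `t` normalising a subgroup `P` of odd order and inverting
  the coset of `x ∈ P` modulo a normal subgroup `N` inverts an element of `P ∩ xN`.
* `exists_real_lift` : every real element of `G ⧸ N` of odd prime power order is the image of a real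
  element of `G` of prime power order.
-/

set_option autoImplicit false

namespace Cfsg.Agent.H538.PrimePowerLift

variable {G : Type*} [Group G]

/-- the elements normalising `M` and stabilising the coset `x M` -/
def cosetStab (M : Subgroup G) (x : G) : Subgroup G where
  carrier := {a | a ∈ Subgroup.normalizer (M : Set G) ∧ x⁻¹ * (a * x * a⁻¹) ∈ M}
  one_mem' := ⟨Subgroup.one_mem _, by simp⟩
  mul_mem' := by
    rintro a b ⟨ha1, ha2⟩ ⟨hb1, hb2⟩
    refine ⟨Subgroup.mul_mem _ ha1 hb1, ?_⟩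
    have h1 : x⁻¹ * (a * b * x * (a * b)⁻¹) =
        (x⁻¹ * (a * x * a⁻¹)) * (a * (x⁻¹ * (b * x * b⁻¹)) * a⁻¹) := by group
    rw [h1]
    exact M.mul_mem ha2 ((Subgroup.mem_normalizer_iff.1 ha1 _).1 hb2)
  inv_mem' := by
    rintro a ⟨ha1, ha2⟩
    refine ⟨Subgroup.inv_mem _ ha1, ?_⟩
    have h1 : x⁻¹ * (a⁻¹ * x * a⁻¹⁻¹) = a⁻¹ * (x⁻¹ * (a * x * a⁻¹))⁻¹ * a⁻¹⁻¹ := by group
    rw [h1]
    exact (Subgroup.mem_normalizer_iff.1 (Subgroup.inv_mem _ ha1) _).1 (M.inv_mem ha2)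

/-- A 2-element `t` normalising a subgroup `P` of odd order and inverting the coset of `x ∈ P`
modulo a normal subgroup `N` inverts an element of `P ∩ xN`. -/
theorem exists_inverted_in_coset [Finite G] (P N : Subgroup G) [hN : N.Normal]
    (hodd : Odd (Nat.card P)) {t x : G} {k : ℕ} (ht : orderOf t = 2 ^ k)
    (htP : t ∈ Subgroup.normalizer (P : Set G)) (hx : x ∈ P) (hinv : t * x * t⁻¹ * x ∈ N) :
    ∃ u ∈ P, t * u * t⁻¹ = u⁻¹ ∧ x⁻¹ * u ∈ N := by
  set M : Subgroup G := P ⊓ N with hM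
  have hMP : M ≤ P := inf_le_left
  have hMN : M ≤ N := inf_le_right
  have hPt : ∀ y ∈ P, t * y * t⁻¹ ∈ P := fun y hy => (Subgroup.mem_normalizer_iff.1 htP y).1 hy
  have hconjP : ∀ y ∈ P, ∀ m ∈ M, y * m * y⁻¹ ∈ M := by
    intro y hy m hm
    exact ⟨P.mul_mem (P.mul_mem hy (hMP hm)) (P.inv_mem hy), hN.conj_mem m (hMN hm) y⟩
  have htM : t ∈ Subgroup.normalizer (M : Set G) := by
    apply Subgroup.inf_normalizer_le_normalizer_inf
    refine ⟨htP, ?_⟩
    rw [Subgroup.normalizer_eq_top_iff.2 hN]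
    exact Subgroup.mem_top t
  have hconjt : ∀ m ∈ M, t * m * t⁻¹ ∈ M := fun m hm => (Subgroup.mem_normalizer_iff.1 htM m).1 hm
  have hoddM : ¬ 2 ∣ Nat.card M := by
    intro h2
    have h3 : 2 ∣ Nat.card P := h2.trans (Subgroup.card_dvd_of_le hMP)
    rw [← even_iff_two_dvd] at h3
    exact (Nat.not_even_iff_odd.2 hodd) h3
  have hm0 : t * x * t⁻¹ * x ∈ M := ⟨P.mul_mem (hPt x hx) hx, hinv⟩
  let B : Subgroup G := Subgroup.zpowers (t ^ 2)
  have hB : IsPGroup 2 B := by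
    have h1 : IsPGroup 2 (Subgroup.zpowers t) := IsPGroup.of_card (n := k) (by
      rw [Nat.card_zpowers, ht])
    exact h1.to_le (by rw [Subgroup.zpowers_le]; exact Subgroup.pow_mem _ (Subgroup.mem_zpowers t) 2)
  have hstab : B ≤ cosetStab M x := by
    rw [Subgroup.zpowers_le]
    refine ⟨Subgroup.pow_mem _ htM 2, ?_⟩
    -- t² x t⁻² = (t m0 t⁻¹) (t x⁻¹ t⁻¹) and t x t⁻¹ = m0 x⁻¹
    have h1 : x⁻¹ * (t ^ 2 * x * (t ^ 2)⁻¹) =
        (x⁻¹ * (t * (t * x * t⁻¹ * x) * t⁻¹) * x⁻¹⁻¹) * (t * x * t⁻¹ * x)⁻¹ := by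
      rw [pow_two]; group
    rw [h1]
    exact M.mul_mem (hconjP _ (P.inv_mem hx) _ (hconjt _ hm0)) (M.inv_mem hm0)
  obtain ⟨c, hcB, hcM⟩ := Cfsg.Agent.Lib.CoprimeCommutator.exists_fixed_in_coset 2 B M hB
    (fun a ha => (hstab ha).1) hoddM x (fun a ha => (hstab ha).2)
  have hcP : c ∈ P := by
    have h1 : c = x * (x⁻¹ * c) := by group
    rw [h1]; exact P.mul_mem hx (hMP hcM)
  -- c commutes with t²
  have hc2 : t ^ 2 * c * (t ^ 2)⁻¹ = c := by
    have h1 := Subgroup.mem_centralizer_iff.1 hcB (t ^ 2) (Subgroup.mem_zpowers _)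
    rw [h1]; group
  set v : G := c⁻¹ * (t * c * t⁻¹) with hv
  have hvP : v ∈ P := P.mul_mem (P.inv_mem hcP) (hPt c hcP)
  have htv : t * v * t⁻¹ = v⁻¹ := by
    have h1 : t * v * t⁻¹ = (t * c * t⁻¹)⁻¹ * (t ^ 2 * c * (t ^ 2)⁻¹) := by
      rw [hv, pow_two]; group
    rw [h1, hc2, hv]; group
  have hvodd : Odd (orderOf v) := by
    have h1 : orderOf v ∣ Nat.card P := by
      have := orderOf_dvd_natCard (⟨v, hvP⟩ : P)
      rwa [Subgroup.orderOf_mk] at this
    exact hodd.of_dvd_nat h1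
  obtain ⟨j, hj⟩ := hvodd
  refine ⟨v ^ j, P.pow_mem hvP j, ?_, ?_⟩
  · rw [← conj_pow, htv, inv_pow]
  · -- work in the quotient by N
    have hq : ∀ z : G, z ∈ N ↔ (QuotientGroup.mk z : G ⧸ N) = 1 := fun z =>
      (QuotientGroup.eq_one_iff z).symm
    rw [hq]
    set X : G ⧸ N := QuotientGroup.mk x with hX
    set T : G ⧸ N := QuotientGroup.mk t with hT
    have h1 : T * X * T⁻¹ * X = 1 := (hq _).1 hinv
    have h2 : (QuotientGroup.mk c : G ⧸ N) = X := by
      have h3 : X⁻¹ * (QuotientGroup.mk c : G ⧸ N) = 1 := (hq _).1 (hMN hcM)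
      rw [inv_mul_eq_one] at h3
      exact h3.symm
    have h4 : T * X * T⁻¹ = X⁻¹ := by rw [← mul_eq_one_iff_eq_inv]; exact h1
    have h5 : (QuotientGroup.mk v : G ⧸ N) = X⁻¹ * X⁻¹ := by
      have : (QuotientGroup.mk v : G ⧸ N) = (QuotientGroup.mk c : G ⧸ N)⁻¹ *
          (T * (QuotientGroup.mk c : G ⧸ N) * T⁻¹) := rfl
      rw [this, h2, h4]
    have h6 : (QuotientGroup.mk (v ^ j) : G ⧸ N) = (X⁻¹ * X⁻¹) ^ j := by
      rw [QuotientGroup.mk_pow, h5]
    have h7 : (X⁻¹ * X⁻¹) ^ (2 * j + 1) = 1 := by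
      rw [← h5, ← QuotientGroup.mk_pow, ← hj, pow_orderOf_eq_one]; rfl
    -- X has odd order dividing ...
    have hXodd : Odd (orderOf X) := by
      have h8 : orderOf X ∣ Nat.card P := by
        have h9 : orderOf X ∣ orderOf x := orderOf_map_dvd (QuotientGroup.mk' N) x
        have h10 := orderOf_dvd_natCard (⟨x, hx⟩ : P)
        rw [Subgroup.orderOf_mk] at h10
        exact h9.trans h10
      exact hodd.of_dvd_nat h8
    have h11 : X ^ (2 * j + 1) = 1 := by
      have h12 : (X ^ (2 * j + 1)) ^ 2 = 1 := by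
        have h13 : ((X⁻¹ * X⁻¹) ^ (2 * j + 1))⁻¹ = (X ^ (2 * j + 1)) ^ 2 := by
          rw [← pow_two, inv_pow, inv_pow, inv_inv, ← pow_mul, ← pow_mul, mul_comm]
        rw [← h13, h7, inv_one]
      have h14 : orderOf (X ^ (2 * j + 1)) ∣ 2 := orderOf_dvd_of_pow_eq_one h12
      have h15 : Odd (orderOf (X ^ (2 * j + 1))) := hXodd.of_dvd_nat (orderOf_pow_dvd _)
      rcases (Nat.dvd_prime Nat.prime_two).1 h14 with h16 | h16
      · exact orderOf_eq_one_iff.1 h16
      · rw [h16] at h15; exact absurd h15 (by decide)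
    change X⁻¹ * (QuotientGroup.mk (v ^ j) : G ⧸ N) = 1
    rw [h6]
    have h17 : X⁻¹ * (X⁻¹ * X⁻¹) ^ j = (X ^ (2 * j + 1))⁻¹ := by
      rw [← pow_two, inv_pow, inv_pow, ← pow_mul, ← mul_inv_rev, ← pow_succ]
    rw [h17, h11, inv_one]

/-- Every real element of `G ⧸ N` of odd prime power order is the image of a real element of `G`
of prime power order. -/
theorem exists_real_lift [Finite G] (N : Subgroup G) [hN : N.Normal] {p : ℕ} [hp : Fact p.Prime]
    (hp2 : p ≠ 2) {q : G ⧸ N} {k : ℕ} (hq : orderOf q = p ^ k) (hr : IsConj q q⁻¹) :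
    ∃ x : G, (QuotientGroup.mk x : G ⧸ N) = q ∧ IsConj x x⁻¹ ∧ ∃ j : ℕ, orderOf x = p ^ j := by
  classical
  obtain ⟨tb, htb⟩ := isConj_iff.1 hr
  obtain ⟨g, rfl⟩ := QuotientGroup.mk_surjective tb
  set f : G →* G ⧸ N := QuotientGroup.mk' N with hf
  have hfs : Function.Surjective f := QuotientGroup.mk'_surjective N
  set X : Subgroup G := (Subgroup.zpowers q).comap f with hX
  -- g normalises X
  have hgq : f g ∈ Subgroup.normalizer ((Subgroup.zpowers q : Subgroup (G ⧸ N)) : Set (G ⧸ N)) :=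
    RealBasics.mem_normalizer_zpowers_of_inverts htb
  have hgX : ∀ y, y ∈ X ↔ g * y * g⁻¹ ∈ X := by
    intro y
    rw [hX, Subgroup.mem_comap, Subgroup.mem_comap, map_mul, map_mul, map_inv]
    exact Subgroup.mem_normalizer_iff.1 hgq _
  obtain ⟨P0⟩ : Nonempty (Sylow p X) := inferInstance
  set P : Subgroup G := (P0 : Subgroup X).map X.subtype with hPdef
  have hPX : P ≤ X := Subgroup.map_subtype_le _
  have hPp : IsPGroup p P := P0.2.map _
  -- conjugate of P by g is a Sylow subgroup of X as well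
  let P' : Subgroup G := P.map (MulAut.conj g).toMonoidHom
  have hP'X : P' ≤ X := by
    rintro _ ⟨y, hy, rfl⟩
    exact (hgX y).1 (hPX hy)
  have hP'p : IsPGroup p P' := hPp.map _
  have hcard : Nat.card P' = Nat.card P := by
    exact Nat.card_congr (P.equivMapOfInjective _ (MulAut.conj g).injective).symm.toEquiv
  have hP'sub : IsPGroup p (P'.subgroupOf X) :=
    hP'p.of_equiv (Subgroup.subgroupOfEquivOfLe hP'X).symm
  have hcard' : Nat.card (P'.subgroupOf X) = Nat.card (P0 : Subgroup X) := by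
    rw [Nat.card_congr (Subgroup.subgroupOfEquivOfLe hP'X).toEquiv, hcard, hPdef]
    exact (Nat.card_congr ((P0 : Subgroup X).equivMapOfInjective _ X.subtype_injective).toEquiv).symm
  let P1 : Sylow p X := Sylow.ofCard (P'.subgroupOf X) (by
    rw [hcard', P0.card_eq_multiplicity])
  obtain ⟨a, ha⟩ := MulAction.exists_smul_eq X P1 P0
  -- n = a g normalises P
  set n : G := (a : G) * g with hn
  have hnP : n ∈ Subgroup.normalizer (P : Set G) := by
    have key : ∀ y ∈ P, n * y * n⁻¹ ∈ P := by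
      intro y hy
      have h1 : g * y * g⁻¹ ∈ P' := ⟨y, hy, rfl⟩
      have h2 : (⟨g * y * g⁻¹, hP'X h1⟩ : X) ∈ (P1 : Subgroup X) := by
        change (⟨g * y * g⁻¹, hP'X h1⟩ : X) ∈ P'.subgroupOf X
        rw [Subgroup.mem_subgroupOf]; exact h1
      have h3 : a * (⟨g * y * g⁻¹, hP'X h1⟩ : X) * a⁻¹ ∈ (P0 : Subgroup X) := by
        rw [← ha, Sylow.coe_subgroup_smul]
        exact Subgroup.smul_mem_pointwise_smul _ (MulAut.conj a) _ h2
      refine ⟨_, h3, ?_⟩
      change (a : G) * (g * y * g⁻¹) * (a : G)⁻¹ = n * y * n⁻¹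
      rw [hn]; group
    have hmap : P.map (MulAut.conj n).toMonoidHom ≤ P := by
      rintro _ ⟨y, hy, rfl⟩
      exact key y hy
    rw [Subgroup.mem_normalizer_iff_map_conj_eq]
    apply Subgroup.eq_of_le_of_card_ge hmap
    exact (Nat.card_congr (P.equivMapOfInjective _ (MulAut.conj n).injective).toEquiv).le
  -- n inverts q
  have hnq : f n * q * (f n)⁻¹ = q⁻¹ := by
    have haX : f (a : G) ∈ Subgroup.zpowers q := a.2
    obtain ⟨i, hi⟩ := Subgroup.mem_zpowers_iff.1 haX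
    rw [hn, map_mul, ← hi]
    have h1 : q ^ i * f g * q * (q ^ i * f g)⁻¹ = q ^ i * (f g * q * (f g)⁻¹) * (q ^ i)⁻¹ := by group
    have h2 : f g * q * (f g)⁻¹ = q⁻¹ := htb
    rw [h1, h2]; group
  -- pass to the 2-part of n
  obtain ⟨e, m, hm, hem⟩ := Nat.exists_eq_two_pow_mul_odd (orderOf_pos n).ne'
  set t : G := n ^ m with ht
  have hto : orderOf t = 2 ^ e := by
    rw [ht, orderOf_pow' n (by rintro rfl; exact absurd hm (by decide)), hem,
      Nat.gcd_mul_left_left, Nat.mul_div_cancel _ hm.pos]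
  have htP : t ∈ Subgroup.normalizer (P : Set G) := Subgroup.pow_mem _ hnP m
  have htq : f t * q * (f t)⁻¹ = q⁻¹ := by
    have hsq : f n * q⁻¹ * (f n)⁻¹ = q := by
      have := congrArg (·⁻¹) hnq
      simpa [mul_assoc] using this
    have key : ∀ r : ℕ, f n ^ (2 * r + 1) * q * (f n ^ (2 * r + 1))⁻¹ = q⁻¹ := by
      intro r
      induction r with
      | zero => simpa using hnq
      | succ r ih =>
        have h1 : f n ^ (2 * (r + 1) + 1) * q * (f n ^ (2 * (r + 1) + 1))⁻¹ =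
            f n * (f n * (f n ^ (2 * r + 1) * q * (f n ^ (2 * r + 1))⁻¹) * (f n)⁻¹) * (f n)⁻¹ := by
          have h2 : f n ^ (2 * (r + 1) + 1) = f n * (f n * f n ^ (2 * r + 1)) := by
            rw [← pow_succ', ← pow_succ']; ring_nf
          rw [h2]; group
        rw [h1, ih, hsq, hnq]
    obtain ⟨r, hr⟩ := hm
    rw [ht, map_pow, hr]
    exact key r
  -- an element of P above q
  have hqP : ∃ y ∈ P, f y = q := by
    let fX : X →* Subgroup.zpowers q := (f.comp X.subtype).codRestrict (Subgroup.zpowers q)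
      (fun y => y.2)
    have hfX : Function.Surjective fX := by
      rintro ⟨z, hz⟩
      obtain ⟨w, hw⟩ := hfs z
      exact ⟨⟨w, by rw [hX, Subgroup.mem_comap, hw]; exact hz⟩, Subtype.ext hw⟩
    have hZ : IsPGroup p (Subgroup.zpowers q) := IsPGroup.of_card (n := k) (by
      rw [Nat.card_zpowers, hq])
    have hfin : Finite (Subgroup.zpowers q) := inferInstance
    let Q : Sylow p (Subgroup.zpowers q) := P0.mapSurjective hfX
    have hQ : (Q : Subgroup (Subgroup.zpowers q)) = ⊤ := by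
      have h1 : IsPGroup p (⊤ : Subgroup (Subgroup.zpowers q)) := hZ.to_subgroup ⊤
      exact (Q.3 h1 le_top).symm
    have h2 : (⟨q, Subgroup.mem_zpowers q⟩ : Subgroup.zpowers q) ∈
        (Q : Subgroup (Subgroup.zpowers q)) := by rw [hQ]; exact Subgroup.mem_top _
    rw [Sylow.coe_mapSurjective] at h2
    obtain ⟨y, hy, hyq⟩ := h2
    exact ⟨y, ⟨y, hy, rfl⟩, congrArg Subtype.val hyq⟩
  obtain ⟨y, hyP, hyq⟩ := hqP
  have hPodd : Odd (Nat.card P) := by
    obtain ⟨r, hr⟩ := IsPGroup.iff_card.1 hPp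
    rw [hr]
    exact (hp.1.odd_of_ne_two hp2).pow
  obtain ⟨u, huP, hu, huN⟩ := exists_inverted_in_coset P N hPodd hto htP hyP (by
    rw [← QuotientGroup.eq_one_iff]
    change f (t * y * t⁻¹ * y) = 1
    rw [map_mul, map_mul, map_mul, map_inv, hyq, htq, inv_mul_cancel])
  refine ⟨u, ?_, RealBasics.isConj_of_conj_eq hu, ?_⟩
  · have h1 : f (y⁻¹ * u) = 1 := (QuotientGroup.eq_one_iff _).2 huN
    rw [map_mul, map_inv, hyq, inv_mul_eq_one] at h1
    exact h1.symm
  · obtain ⟨j, hj⟩ := (IsPGroup.iff_orderOf.1 hPp) ⟨u, huP⟩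
    exact ⟨j, by rwa [Subgroup.orderOf_mk] at hj⟩

end Cfsg.Agent.H538.PrimePowerLift
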