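import Cfsg.Agent.H538.PrimePowerLift
import Cfsg.Agent.S0007
import Cfsg.Agent.S3861
import Cfsg.Agent.S3863

/-!
# The prime graph on real class sizes: first consequences of disconnectedness (helper538)
-/

set_option autoImplicit false

namespace Cfsg.Agent.H538.RealGraph

open Cfsg.Agent.H538.RealBasics

variable {G : Type*} [Group G]

/-- the set of real class sizes -/
def RealSizes (G : Type*) [Group G] : Set ℕ :=
  {n : ℕ | ∃ x : G, IsConj x x⁻¹ ∧ (Subgroup.centralizer ({x} : Set G)).index = n}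

/-- the class size of `x` -/
noncomputable abbrev cs (x : G) : ℕ := (Subgroup.centralizer ({x} : Set G)).index

/-- the prime graph on the real class sizes is disconnected, `π₁` and `π₂` being the two parts -/
structure Disc (G : Type*) [Group G] (π₁ π₂ : Set ℕ) : Prop where
  ne₁ : π₁.Nonempty
  ne₂ : π₂.Nonempty
  disj : Disjoint π₁ π₂
  vert : ∀ q ∈ π₁ ∪ π₂, q.Prime ∧ ∃ n ∈ RealSizes G, q ∣ n
  cover : ∀ q : ℕ, q.Prime → (∃ n ∈ RealSizes G, q ∣ n) → q ∈ π₁ ∨ q ∈ π₂
  noedge : ∀ a ∈ π₁, ∀ b ∈ π₂, ∀ n ∈ RealSizes G, ¬ (a ∣ n ∧ b ∣ n)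

theorem Disc.symm {π₁ π₂ : Set ℕ} (h : Disc G π₁ π₂) : Disc G π₂ π₁ where
  ne₁ := h.ne₂
  ne₂ := h.ne₁
  disj := h.disj.symm
  vert := fun q hq => h.vert q (by rwa [Set.union_comm])
  cover := fun q hq hn => (h.cover q hq hn).symm
  noedge := fun a ha b hb n hn hab => h.noedge b hb a ha n hn ⟨hab.2, hab.1⟩

/-- the conjugacy class of `x` as a set -/
def cl (x : G) : Set G := Set.range (fun g : G => g * x * g⁻¹)

theorem mem_cl {x y : G} : y ∈ cl x ↔ ∃ g : G, g * x * g⁻¹ = y := Iff.rfl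

theorem mem_cl_self (x : G) : x ∈ cl x := ⟨1, by simp⟩

theorem ncard_cl [Finite G] (x : G) : (cl x).ncard = cs x := by
  classical
  have h : cl x = Set.range (fun q : G ⧸ Subgroup.centralizer ({x} : Set G) =>
      Quotient.liftOn' q (fun g => g * x * g⁻¹) (by
        intro a b hab
        have h1 : a⁻¹ * b ∈ Subgroup.centralizer ({x} : Set G) := QuotientGroup.leftRel_apply.1 hab
        rw [Subgroup.mem_centralizer_singleton_iff] at h1
        change a * x * a⁻¹ = b * x * b⁻¹
        have h2 : b * x * b⁻¹ = a * ((a⁻¹ * b) * x) * b⁻¹ := by group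
        rw [h2, h1]; group)) := by
    ext y
    constructor
    · rintro ⟨g, rfl⟩
      exact ⟨QuotientGroup.mk g, rfl⟩
    · rintro ⟨q, rfl⟩
      obtain ⟨g, rfl⟩ := QuotientGroup.mk_surjective q
      exact ⟨g, rfl⟩
  rw [h, ← Set.image_univ, Set.ncard_image_of_injective, Set.ncard_univ]
  · rfl
  · intro q r hqr
    obtain ⟨a, rfl⟩ := QuotientGroup.mk_surjective q
    obtain ⟨b, rfl⟩ := QuotientGroup.mk_surjective r
    change a * x * a⁻¹ = b * x * b⁻¹ at hqr
    rw [QuotientGroup.eq, Subgroup.mem_centralizer_singleton_iff]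
    have h2 : x = a⁻¹ * (a * x * a⁻¹) * a := by group
    calc a⁻¹ * b * x = a⁻¹ * (b * x * b⁻¹) * b := by group
      _ = a⁻¹ * (a * x * a⁻¹) * b := by rw [hqr]
      _ = x * (a⁻¹ * b) := by group

theorem cs_conj [Finite G] (x g : G) : cs (g * x * g⁻¹) = cs x := index_centralizer_conj x g

theorem cs_pos [Finite G] (x : G) : 0 < cs x := Nat.pos_of_ne_zero Subgroup.index_ne_zero_of_finite

/-- coprime class sizes: products of conjugates are conjugate -/
theorem mul_mem_cl_mul [Finite G] {x y : G} (h : (cs x).Coprime (cs y)) {u v : G} (hu : u ∈ cl x)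
    (hv : v ∈ cl y) : u * v ∈ cl (x * y) := by
  obtain ⟨g, rfl⟩ := hu
  obtain ⟨k, rfl⟩ := hv
  obtain ⟨c, hc, d, hd, hcd⟩ := (Cfsg.Agent.S0007.result _ _ h).2 (g⁻¹ * k)
  rw [Subgroup.mem_centralizer_singleton_iff] at hc hd
  refine ⟨g * c, ?_⟩
  have h1 : k = g * c * d := by
    have : g * (g⁻¹ * k) = g * (c * d) := by rw [hcd]
    simpa [mul_assoc] using this
  have h2 : k * y * k⁻¹ = (g * c) * y * (g * c)⁻¹ := by
    rw [h1]
    calc g * c * d * y * (g * c * d)⁻¹ = g * c * (d * y) * (g * c * d)⁻¹ := by group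
      _ = g * c * (y * d) * (g * c * d)⁻¹ := by rw [hd]
      _ = _ := by group
  have h3 : g * x * g⁻¹ = (g * c) * x * (g * c)⁻¹ := by
    calc g * x * g⁻¹ = g * (x * c) * c⁻¹ * g⁻¹ := by group
      _ = g * (c * x) * c⁻¹ * g⁻¹ := by rw [hc]
      _ = _ := by group
  change g * c * (x * y) * (g * c)⁻¹ = g * x * g⁻¹ * (k * y * k⁻¹)
  rw [h2, h3]; group

/-- coprime class sizes: transitivity of the centralizer of `x` on the class of `y` -/
theorem exists_centralizer_conj [Finite G] {x y : G} (h : (cs x).Coprime (cs y)) {u v : G}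
    (hu : u ∈ cl y) (hv : v ∈ cl y) : ∃ c : G, c * x = x * c ∧ c * u * c⁻¹ = v := by
  obtain ⟨g, rfl⟩ := hu
  obtain ⟨k, rfl⟩ := hv
  have hcop : (cs x).Coprime (cs (g * y * g⁻¹)) := by rwa [cs_conj]
  obtain ⟨c, hc, d, hd, hcd⟩ := (Cfsg.Agent.S0007.result _ _ hcop).2 (k * g⁻¹)
  rw [Subgroup.mem_centralizer_singleton_iff] at hc hd
  refine ⟨c, hc, ?_⟩
  change c * (g * y * g⁻¹) * c⁻¹ = k * y * k⁻¹
  have h1 : k = c * d * g := by rw [← hcd]; group
  rw [h1]
  calc c * (g * y * g⁻¹) * c⁻¹ = c * ((g * y * g⁻¹) * d) * d⁻¹ * c⁻¹ := by group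
    _ = c * (d * (g * y * g⁻¹)) * d⁻¹ * c⁻¹ := by rw [hd]
    _ = _ := by group

/-- if the class of `x * y` is not larger than the class of `x`, the class of `x` is invariant
under right multiplication by quotients of conjugates of `y` -/
theorem mul_div_mem_cl [Finite G] {x y : G} (h : (cs x).Coprime (cs y)) (hle : cs (x * y) ≤ cs x)
    {u v w : G} (hu : u ∈ cl x) (hv : v ∈ cl y) (hw : w ∈ cl y) : u * v * w⁻¹ ∈ cl x := by
  have hsub : (fun u => u * w) '' cl x ⊆ cl (x * y) := by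
    rintro _ ⟨u', hu', rfl⟩
    exact mul_mem_cl_mul h hu' hw
  have hcard : (cl (x * y)).ncard ≤ ((fun u => u * w) '' cl x).ncard := by
    rw [Set.ncard_image_of_injective _ (mul_left_injective w), ncard_cl, ncard_cl]
    exact hle
  have heq := Set.eq_of_subset_of_ncard_le hsub hcard (Set.toFinite _)
  have h1 : u * v ∈ (fun u => u * w) '' cl x := by
    rw [heq]; exact mul_mem_cl_mul h hu hv
  obtain ⟨u', hu', h2⟩ := h1
  change u' * w = u * v at h2
  rw [← h2]
  simpa using hu'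

/-- the same on the other side -/
theorem div_mul_mem_cl [Finite G] {x y : G} (h : (cs x).Coprime (cs y)) (hle : cs (x * y) ≤ cs y)
    {u v w : G} (hu : u ∈ cl x) (hw : w ∈ cl x) (hv : v ∈ cl y) : w⁻¹ * (u * v) ∈ cl y := by
  have hsub : (fun v => w * v) '' cl y ⊆ cl (x * y) := by
    rintro _ ⟨v', hv', rfl⟩
    exact mul_mem_cl_mul h hw hv'
  have hcard : (cl (x * y)).ncard ≤ ((fun v => w * v) '' cl y).ncard := by
    rw [Set.ncard_image_of_injective _ (mul_right_injective w), ncard_cl, ncard_cl]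
    exact hle
  have heq := Set.eq_of_subset_of_ncard_le hsub hcard (Set.toFinite _)
  have h1 : u * v ∈ (fun v => w * v) '' cl y := by
    rw [heq]; exact mul_mem_cl_mul h hu hv
  obtain ⟨v', hv', h2⟩ := h1
  change w * v' = u * v at h2
  rw [← h2]
  simpa using hv'

/-- a finite set invariant under a fixed point free involution has even size -/
theorem even_ncard_of_involution {α : Type*} [Finite α] (s : Set α) (f : α → α)
    (hf : ∀ a ∈ s, f a ∈ s) (hff : ∀ a ∈ s, f (f a) = a) (hne : ∀ a ∈ s, f a ≠ a) :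
    Even s.ncard := by
  classical
  have := Fintype.ofFinite α
  rw [Set.ncard_eq_toFinset_card']
  have h1 : ∑ a ∈ s.toFinset, (1 : ZMod 2) = 0 := by
    refine Finset.sum_involution (fun a _ => f a) ?_ ?_ ?_ ?_
    · intro a ha
      decide
    · intro a ha _
      exact hne a (Set.mem_toFinset.1 ha)
    · intro a ha
      exact Set.mem_toFinset.2 (hf a (Set.mem_toFinset.1 ha))
    · intro a ha
      exact hff a (Set.mem_toFinset.1 ha)
  rw [Finset.sum_const, nsmul_eq_mul, mul_one] at h1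
  rw [even_iff_two_dvd]
  exact (ZMod.natCast_eq_zero_iff _ _).1 h1

end Cfsg.Agent.H538.RealGraph
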