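import Cfsg.Agent.H538.RealGraph

/-!
# The prime graph on real class sizes, II (helper538)

* `Disc.two_mem` : if the prime graph on real class sizes is disconnected, `2` is a vertex.
* `Piv` : involutions whose class size is divisible by a prime of `π₂` (where `2 ∈ π₁`).
* `Piv.not_commute` : such an involution commutes with no real element `≠ 1` of odd order.
* `no_real_of_not_mem` : no real element of order a power of an odd prime outside `π₂`.
-/

set_option autoImplicit false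

namespace Cfsg.Agent.H538.RealGraph

open Cfsg.Agent.H538.RealBasics

variable {G : Type*} [Group G]

theorem Disc.coprime {π₁ π₂ : Set ℕ} (h : Disc G π₁ π₂) {m n a b : ℕ} (hm : m ∈ RealSizes G)
    (hn : n ∈ RealSizes G) (ha : a ∈ π₁) (ham : a ∣ m) (hb : b ∈ π₂) (hbn : b ∣ n) :
    m.Coprime n := by
  by_contra hncop
  obtain ⟨q, hq, hqm, hqn⟩ := Nat.Prime.not_coprime_iff_dvd.1 hncop
  rcases h.cover q hq ⟨m, hm, hqm⟩ with hq1 | hq2
  · exact h.noedge q hq1 b hb n hn ⟨hqn, hbn⟩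
  · exact h.noedge a ha q hq2 m hm ⟨ham, hqm⟩

theorem Disc.dvd_or {π₁ π₂ : Set ℕ} (h : Disc G π₁ π₂) {k m n a b : ℕ} (hk : k ∈ RealSizes G)
    (hm : m ∈ RealSizes G) (hn : n ∈ RealSizes G) (ha : a ∈ π₁) (ham : a ∣ m) (hb : b ∈ π₂)
    (hbn : b ∣ n) (hkmn : k ∣ m * n) : k ∣ m ∨ k ∣ n := by
  by_cases h1 : k.Coprime m
  · exact Or.inr (h1.dvd_of_dvd_mul_left hkmn)
  by_cases h2 : k.Coprime n
  · exact Or.inl (h2.dvd_of_dvd_mul_right hkmn)
  exfalso
  rw [Nat.Prime.not_coprime_iff_dvd] at h1 h2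
  obtain ⟨p, hp, hpk, hpm⟩ := h1
  obtain ⟨q, hq, hqk, hqn⟩ := h2
  have hp1 : p ∈ π₁ := by
    rcases h.cover p hp ⟨m, hm, hpm⟩ with h3 | h3
    · exact h3
    · exact (h.noedge a ha p h3 m hm ⟨ham, hpm⟩).elim
  have hq2 : q ∈ π₂ := by
    rcases h.cover q hq ⟨n, hn, hqn⟩ with h3 | h3
    · exact (h.noedge q h3 b hb n hn ⟨hqn, hbn⟩).elim
    · exact h3
  exact h.noedge p hp1 q hq2 k hk ⟨hpk, hqk⟩

/-- a subgroup of index prime to `p` contains a Sylow `p`-subgroup -/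
theorem exists_sylow_le [Finite G] {p : ℕ} [hp : Fact p.Prime] (H : Subgroup G)
    (h : ¬ p ∣ H.index) : ∃ Q : Sylow p G, (Q : Subgroup G) ≤ H := by
  obtain ⟨R⟩ : Nonempty (Sylow p H) := inferInstance
  have hcard : Nat.card ((R : Subgroup H).map H.subtype) = p ^ (Nat.card G).factorization p := by
    rw [← Nat.card_congr ((R : Subgroup H).equivMapOfInjective _ H.subtype_injective).toEquiv,
      R.card_eq_multiplicity, ← H.index_mul_card, Nat.factorization_mul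
        Subgroup.index_ne_zero_of_finite Nat.card_pos.ne', Finsupp.add_apply,
      Nat.factorization_eq_zero_of_not_dvd h, zero_add]
  exact ⟨Sylow.ofCard _ hcard, Subgroup.map_subtype_le _⟩

/-- elements of `p`-power order lie in Sylow subgroups -/
theorem exists_mem_sylow [Finite G] {p : ℕ} [hp : Fact p.Prime] {x : G} {k : ℕ}
    (hx : orderOf x = p ^ k) : ∃ Q : Sylow p G, x ∈ (Q : Subgroup G) := by
  have hX : IsPGroup p (Subgroup.zpowers x) := IsPGroup.of_card (n := k) (by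
    rw [Nat.card_zpowers, hx])
  obtain ⟨Q, hQ⟩ := hX.exists_le_sylow
  exact ⟨Q, hQ (Subgroup.mem_zpowers x)⟩

/-- conjugacy of Sylow subgroups in elementwise form -/
theorem exists_conj_mem [Finite G] {p : ℕ} [hp : Fact p.Prime] (Q R : Sylow p G) :
    ∃ g : G, ∀ x ∈ (Q : Subgroup G), g * x * g⁻¹ ∈ (R : Subgroup G) := by
  obtain ⟨g, hg⟩ := MulAction.exists_smul_eq G Q R
  refine ⟨g, fun x hx => ?_⟩
  rw [← hg, Sylow.coe_subgroup_smul]
  exact Subgroup.smul_mem_pointwise_smul x (MulAut.conj g) _ hx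

/-- the class size of a product of commuting elements divides the product of the class sizes when
these are coprime -/
theorem cs_mul_dvd [Finite G] {x y : G} (h : (cs x).Coprime (cs y)) : cs (x * y) ∣ cs x * cs y := by
  rw [← (Cfsg.Agent.S0007.result _ _ h).1]
  apply Subgroup.index_dvd_of_le
  intro g hg
  obtain ⟨h1, h2⟩ := Subgroup.mem_inf.1 hg
  rw [Subgroup.mem_centralizer_singleton_iff] at h1 h2 ⊢
  calc g * (x * y) = (g * x) * y := by group
    _ = x * (g * y) := by rw [h1]; group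
    _ = x * y * g := by rw [h2]; group

theorem isConj_inv_of_sq {x : G} (h : x ^ 2 = 1) : IsConj x x⁻¹ := by
  have h1 : x⁻¹ = x := by rw [inv_eq_iff_mul_eq_one, ← pow_two]; exact h
  rw [h1]

/-- all conjugates of a real element are real -/
theorem real_of_mem_cl {x y : G} (hx : IsConj x x⁻¹) (hy : y ∈ cl x) : IsConj y y⁻¹ := by
  obtain ⟨g, rfl⟩ := hy
  obtain ⟨c, hc⟩ := isConj_iff.1 hx
  refine isConj_iff.2 ⟨g * c * g⁻¹, ?_⟩
  change g * c * g⁻¹ * (g * x * g⁻¹) * (g * c * g⁻¹)⁻¹ = (g * x * g⁻¹)⁻¹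
  calc g * c * g⁻¹ * (g * x * g⁻¹) * (g * c * g⁻¹)⁻¹ = g * (c * x * c⁻¹) * g⁻¹ := by group
    _ = _ := by rw [hc]; group

theorem mem_realSizes {x : G} (hx : IsConj x x⁻¹) : cs x ∈ RealSizes G := ⟨x, hx, rfl⟩

/-- if `2` is not a vertex we get a contradiction: auxiliary computation -/
theorem Disc.aux {π₁ π₂ : Set ℕ} [Finite G] (h : Disc G π₁ π₂)
    (hodd : ∀ x : G, IsConj x x⁻¹ → Odd (cs x)) {x y : G} {a b : ℕ} (hx : IsConj x x⁻¹)
    (hy : IsConj y y⁻¹) (ha : a ∈ π₁) (hax : a ∣ cs x) (hb : b ∈ π₂) (hby : b ∣ cs y)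
    (hle : cs (x * y) ≤ cs x) (hcomm : ∀ u : G, IsConj u u⁻¹ → ∀ v : G, IsConj v v⁻¹ → Commute u v) :
    False := by
  have hcop := h.coprime (mem_realSizes hx) (mem_realSizes hy) ha hax hb hby
  have hsq : ∀ u : G, IsConj u u⁻¹ → u ^ 2 = 1 := fun u hu =>
    (Cfsg.Agent.S3863.result u hu).2.1 (hodd u hu)
  -- another conjugate of y
  have hyne : ∃ w ∈ cl y, w ≠ y := by
    by_contra hcon
    push Not at hcon
    have h1 : cl y = {y} := by
      ext z; constructor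
      · exact hcon z
      · rintro rfl; exact mem_cl_self _
    have h2 : cs y = 1 := by rw [← ncard_cl, h1, Set.ncard_singleton]
    rw [h2, Nat.dvd_one] at hby
    exact ((h.vert b (Or.inr hb)).1).one_lt.ne' hby
  obtain ⟨w, hw, hwy⟩ := hyne
  have hwr := real_of_mem_cl hy hw
  have hc : Commute y w⁻¹ := (hcomm y hy w hwr).inv_right
  have hd2 : (y * w⁻¹) * (y * w⁻¹) = 1 := by
    have h1 : (y * w⁻¹) ^ 2 = y ^ 2 * (w⁻¹) ^ 2 := hc.mul_pow 2
    rw [pow_two] at h1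
    rw [h1, hsq y hy, inv_pow, hsq w hwr]; simp
  have heven : Even (cl x).ncard := by
    refine even_ncard_of_involution (cl x) (fun u => u * y * w⁻¹) ?_ ?_ ?_
    · intro u hu
      exact mul_div_mem_cl hcop hle hu (mem_cl_self y) hw
    · intro u _
      change u * y * w⁻¹ * y * w⁻¹ = u
      calc u * y * w⁻¹ * y * w⁻¹ = u * ((y * w⁻¹) * (y * w⁻¹)) := by group
        _ = u := by rw [hd2, mul_one]
    · intro u _ hu
      change u * y * w⁻¹ = u at hu
      rw [mul_assoc, mul_eq_left] at hu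
      exact hwy (mul_inv_eq_one.1 hu).symm
  rw [ncard_cl] at heven
  exact (Nat.not_even_iff_odd.2 (hodd x hx)) heven

/-- `2` is a vertex of a disconnected prime graph on real class sizes -/
theorem Disc.two_mem {π₁ π₂ : Set ℕ} [Finite G] (h : Disc G π₁ π₂) : 2 ∈ π₁ ∨ 2 ∈ π₂ := by
  by_contra hcon
  have hodd : ∀ x : G, IsConj x x⁻¹ → Odd (cs x) := by
    intro x hx
    rw [← Nat.not_even_iff_odd, even_iff_two_dvd]
    intro h2
    exact hcon (h.cover 2 Nat.prime_two ⟨cs x, mem_realSizes hx, h2⟩)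
  have hsq : ∀ u : G, IsConj u u⁻¹ → u ^ 2 = 1 := fun u hu =>
    (Cfsg.Agent.S3863.result u hu).2.1 (hodd u hu)
  obtain ⟨S⟩ : Nonempty (Sylow 2 G) := inferInstance
  have hSn : (S : Subgroup G).Normal := by
    rw [← Cfsg.Agent.S3861.result S]
    intro x hx1 hxo hxr
    have h3 : orderOf x ∣ 2 := orderOf_dvd_of_pow_eq_one (hsq x hxr)
    rcases (Nat.dvd_prime Nat.prime_two).1 h3 with h4 | h4
    · exact hx1 (orderOf_eq_one_iff.1 h4)
    · rw [h4] at hxo; exact absurd hxo (by decide)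
  have huniq : ∀ Q : Sylow 2 G, Q = S := by
    intro Q
    have := Sylow.unique_of_normal S hSn
    exact Subsingleton.elim _ _
  have hcomm : ∀ u : G, IsConj u u⁻¹ → ∀ v : G, IsConj v v⁻¹ → Commute u v := by
    intro u hu v hv
    have hu2 : ∃ k, orderOf u = 2 ^ k := by
      have h3 : orderOf u ∣ 2 ^ 1 := orderOf_dvd_of_pow_eq_one (by rw [pow_one]; exact hsq u hu)
      obtain ⟨k, -, hk⟩ := (Nat.dvd_prime_pow Nat.prime_two).1 h3
      exact ⟨k, hk⟩
    obtain ⟨k, hk⟩ := hu2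
    obtain ⟨Q, hQ⟩ := exists_mem_sylow hk
    obtain ⟨R, hR⟩ := exists_sylow_le (p := 2) (Subgroup.centralizer ({v} : Set G)) (by
      rw [← even_iff_two_dvd, Nat.not_even_iff_odd]; exact hodd v hv)
    rw [huniq Q] at hQ
    rw [huniq R] at hR
    exact Subgroup.mem_centralizer_singleton_iff.1 (hR hQ)
  obtain ⟨a, ha⟩ := h.ne₁
  obtain ⟨b, hb⟩ := h.ne₂
  obtain ⟨hap, n, ⟨x, hx, rfl⟩, hax⟩ := h.vert a (Or.inl ha)
  obtain ⟨hbp, n, ⟨y, hy, rfl⟩, hby⟩ := h.vert b (Or.inr hb)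
  have hcop := h.coprime (mem_realSizes hx) (mem_realSizes hy) ha hax hb hby
  have hxy2 : (x * y) ^ 2 = 1 := by
    rw [(hcomm x hx y hy).mul_pow, hsq x hx, hsq y hy, one_mul]
  have hxyr := isConj_inv_of_sq hxy2
  rcases h.dvd_or (mem_realSizes hxyr) (mem_realSizes hx) (mem_realSizes hy) ha hax hb hby
    (cs_mul_dvd hcop) with h1 | h1
  · exact h.aux hodd hx hy ha hax hb hby (Nat.le_of_dvd (cs_pos x) h1) hcomm
  · have h2 : cs (y * x) ≤ cs y := by
      rw [← (hcomm x hx y hy).eq]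
      exact Nat.le_of_dvd (cs_pos y) h1
    exact h.symm.aux hodd hy hx hb hby ha hax h2 hcomm

/-- involutions (or the identity) with class size divisible by a prime of `π₂` -/
structure Piv (π₂ : Set ℕ) (i : G) : Prop where
  sq : i ^ 2 = 1
  dvd : ∃ b ∈ π₂, b ∣ cs i

theorem Piv.real {π₂ : Set ℕ} {i : G} (hi : Piv π₂ i) : IsConj i i⁻¹ := isConj_inv_of_sq hi.sq

theorem Piv.conj [Finite G] {π₂ : Set ℕ} {i j : G} (hi : Piv π₂ i) (hj : j ∈ cl i) : Piv π₂ j := by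
  obtain ⟨g, rfl⟩ := hj
  refine ⟨?_, ?_⟩
  · rw [conj_pow, hi.sq]; simp
  · obtain ⟨b, hb, hbi⟩ := hi.dvd
    exact ⟨b, hb, by rwa [cs_conj]⟩

theorem Piv.odd [Finite G] {π₁ π₂ : Set ℕ} (h : Disc G π₁ π₂) (h2 : 2 ∈ π₁) {i : G}
    (hi : Piv π₂ i) : Odd (cs i) := by
  rw [← Nat.not_even_iff_odd, even_iff_two_dvd]
  intro h3
  obtain ⟨b, hb, hbi⟩ := hi.dvd
  exact h.noedge 2 h2 b hb (cs i) (mem_realSizes hi.real) ⟨h3, hbi⟩

theorem exists_piv [Finite G] {π₁ π₂ : Set ℕ} (h : Disc G π₁ π₂) (h2 : 2 ∈ π₁) :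
    ∃ i : G, Piv π₂ i := by
  obtain ⟨b, hb⟩ := h.ne₂
  obtain ⟨hbp, n, ⟨i, hi, rfl⟩, hbi⟩ := h.vert b (Or.inr hb)
  refine ⟨i, ?_, b, hb, hbi⟩
  apply (Cfsg.Agent.S3863.result i hi).2.1
  rw [← Nat.not_even_iff_odd, even_iff_two_dvd]
  intro h3
  exact h.noedge 2 h2 b hb (cs i) (mem_realSizes hi) ⟨h3, hbi⟩

theorem two_dvd_cs [Finite G] {x : G} (hx : IsConj x x⁻¹) (ho : Odd (orderOf x)) (h1 : x ≠ 1) :
    2 ∣ cs x := by
  rw [← even_iff_two_dvd, ← Nat.not_odd_iff_even]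
  intro h2
  have h3 : orderOf x ∣ 2 := orderOf_dvd_of_pow_eq_one ((Cfsg.Agent.S3863.result x hx).2.1 h2)
  rcases (Nat.dvd_prime Nat.prime_two).1 h3 with h4 | h4
  · exact h1 (orderOf_eq_one_iff.1 h4)
  · rw [h4] at ho; exact absurd ho (by decide)

theorem Piv.coprime [Finite G] {π₁ π₂ : Set ℕ} (h : Disc G π₁ π₂) (h2 : 2 ∈ π₁) {i x : G}
    (hi : Piv π₂ i) (hx : IsConj x x⁻¹) (hxe : 2 ∣ cs x) : (cs x).Coprime (cs i) := by
  obtain ⟨b, hb, hbi⟩ := hi.dvd
  exact h.coprime (mem_realSizes hx) (mem_realSizes hi.real) h2 hxe hb hbi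

/-- `C_G(i)` has no real elements of odd order -/
theorem Piv.eq_one_of_commute [Finite G] {π₁ π₂ : Set ℕ} (h : Disc G π₁ π₂) (h2 : 2 ∈ π₁)
    {i x t : G} (hi : Piv π₂ i) (hxi : Commute x i) (hti : Commute t i) (ht : t * x * t⁻¹ = x⁻¹)
    (ho : Odd (orderOf x)) : x = 1 := by
  by_contra hx1
  have hxr := isConj_of_conj_eq ht
  have hxe := two_dvd_cs hxr ho hx1
  have hcop := hi.coprime h h2 hxr hxe
  have hii : i⁻¹ = i := by rw [inv_eq_iff_mul_eq_one, ← pow_two]; exact hi.sq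
  have hzr : IsConj (x * i) (x * i)⁻¹ := by
    apply isConj_of_conj_eq (t := t)
    rw [mul_inv_rev, hii]
    calc t * (x * i) * t⁻¹ = (t * x * t⁻¹) * (t * i * t⁻¹) := by group
      _ = x⁻¹ * i := by rw [ht, hti.eq]; group
      _ = i * x⁻¹ := hxi.inv_left.eq
  have hcent : Subgroup.centralizer ({x * i} : Set G) =
      Subgroup.centralizer ({x} : Set G) ⊓ Subgroup.centralizer ({i} : Set G) := by
    ext g
    rw [Subgroup.mem_inf, Subgroup.mem_centralizer_singleton_iff,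
      Subgroup.mem_centralizer_singleton_iff, Subgroup.mem_centralizer_singleton_iff]
    constructor
    · intro hg
      have hg' : Commute g (x * i) := hg
      have h3 : Commute g i := by
        have h4 : (x * i) ^ orderOf x = i := by
          rw [hxi.mul_pow, pow_orderOf_eq_one, one_mul]
          obtain ⟨k, hk⟩ := ho
          rw [hk, pow_succ, pow_mul, hi.sq, one_pow, one_mul]
        have := hg'.pow_right (orderOf x)
        rwa [h4] at this
      refine ⟨?_, h3⟩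
      have h5 : x = (x * i) * i⁻¹ := by group
      have h6 : Commute g ((x * i) * i⁻¹) := hg'.mul_right h3.inv_right
      rw [← h5] at h6
      exact h6
    · rintro ⟨h3, h4⟩
      have h5 : Commute g (x * i) := Commute.mul_right h3 h4
      exact h5
  have hcs : cs (x * i) = cs x * cs i := by
    change (Subgroup.centralizer ({x * i} : Set G)).index = _
    rw [hcent]
    exact (Cfsg.Agent.S0007.result _ _ hcop).1
  obtain ⟨b, hb, hbi⟩ := hi.dvd
  exact h.noedge 2 h2 b hb (cs (x * i)) (mem_realSizes hzr)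
    ⟨by rw [hcs]; exact hxe.mul_right _, by rw [hcs]; exact hbi.mul_left _⟩

/-- real elements `≠ 1` of odd order do not commute with any conjugate of `i` -/
theorem Piv.not_commute [Finite G] {π₁ π₂ : Set ℕ} (h : Disc G π₁ π₂) (h2 : 2 ∈ π₁)
    {i x j : G} (hi : Piv π₂ i) (hx : IsConj x x⁻¹) (ho : Odd (orderOf x)) (h1 : x ≠ 1)
    (hj : j ∈ cl i) : ¬ Commute x j := by
  intro hxj
  obtain ⟨⟨t, ⟨k, hk⟩, ht⟩, -, -⟩ := Cfsg.Agent.S3863.result x hx
  obtain ⟨S, hS⟩ := exists_mem_sylow hk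
  obtain ⟨Q, hQ⟩ := exists_sylow_le (p := 2) (Subgroup.centralizer ({i} : Set G)) (by
    rw [← even_iff_two_dvd, Nat.not_even_iff_odd]; exact hi.odd h h2)
  obtain ⟨g, hg⟩ := exists_conj_mem S Q
  -- i' = g⁻¹ i g is centralised by t
  have hti : Commute t (g⁻¹ * i * g⁻¹⁻¹) := by
    have h3 := Subgroup.mem_centralizer_singleton_iff.1 (hQ (hg t hS))
    have h4 : g⁻¹ * ((g * t * g⁻¹) * i) * g = g⁻¹ * (i * (g * t * g⁻¹)) * g := by rw [h3]
    change t * (g⁻¹ * i * g⁻¹⁻¹) = (g⁻¹ * i * g⁻¹⁻¹) * t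
    calc t * (g⁻¹ * i * g⁻¹⁻¹) = g⁻¹ * ((g * t * g⁻¹) * i) * g := by group
      _ = g⁻¹ * (i * (g * t * g⁻¹)) * g := h4
      _ = _ := by group
  have hi' : g⁻¹ * i * g⁻¹⁻¹ ∈ cl i := ⟨g⁻¹, rfl⟩
  have hcop := hi.coprime h h2 hx (two_dvd_cs hx ho h1)
  obtain ⟨c, hcx, hc⟩ := exists_centralizer_conj hcop hj hi'
  have hxi : Commute x (g⁻¹ * i * g⁻¹⁻¹) := by
    rw [← hc]
    have h5 : c * x * c⁻¹ = x := by rw [hcx]; group
    have h6 : c * (x * j) * c⁻¹ = c * (j * x) * c⁻¹ := by rw [hxj.eq]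
    change x * (c * j * c⁻¹) = c * j * c⁻¹ * x
    calc x * (c * j * c⁻¹) = (c * x * c⁻¹) * (c * j * c⁻¹) := by rw [h5]
      _ = c * (x * j) * c⁻¹ := by group
      _ = c * (j * x) * c⁻¹ := h6
      _ = (c * j * c⁻¹) * (c * x * c⁻¹) := by group
      _ = _ := by rw [h5]
  exact h1 ((hi.conj hi').eq_one_of_commute h h2 hxi hti ht ho)

/-- no real elements of order a power of an odd prime outside `π₂` -/
theorem no_real_of_not_mem [Finite G] {π₁ π₂ : Set ℕ} (h : Disc G π₁ π₂) (h2 : 2 ∈ π₁)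
    {r : ℕ} [hr : Fact r.Prime] (hr2 : r ≠ 2) (hr' : r ∉ π₂) {x : G} (hx : IsConj x x⁻¹) {k : ℕ}
    (hk : orderOf x = r ^ k) : x = 1 := by
  by_contra h1
  obtain ⟨i, hi⟩ := exists_piv h h2
  obtain ⟨b, hb, hbi⟩ := hi.dvd
  have hri : ¬ r ∣ cs i := by
    intro h3
    rcases h.cover r hr.1 ⟨cs i, mem_realSizes hi.real, h3⟩ with h4 | h4
    · exact h.noedge r h4 b hb _ (mem_realSizes hi.real) ⟨h3, hbi⟩
    · exact hr' h4
  obtain ⟨Q, hQ⟩ := exists_sylow_le (p := r) (Subgroup.centralizer ({i} : Set G)) hri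
  obtain ⟨S, hS⟩ := exists_mem_sylow hk
  obtain ⟨g, hg⟩ := exists_conj_mem S Q
  have h3 := Subgroup.mem_centralizer_singleton_iff.1 (hQ (hg x hS))
  have hodd : Odd (orderOf x) := by
    rw [hk]; exact (hr.1.odd_of_ne_two hr2).pow
  refine hi.not_commute h h2 (j := g⁻¹ * i * g⁻¹⁻¹) hx hodd h1 ⟨g⁻¹, rfl⟩ ?_
  change x * (g⁻¹ * i * g⁻¹⁻¹) = (g⁻¹ * i * g⁻¹⁻¹) * x
  have h4 : g⁻¹ * ((g * x * g⁻¹) * i) * g = g⁻¹ * (i * (g * x * g⁻¹)) * g := by rw [h3]
  calc x * (g⁻¹ * i * g⁻¹⁻¹) = g⁻¹ * ((g * x * g⁻¹) * i) * g := by group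
    _ = g⁻¹ * (i * (g * x * g⁻¹)) * g := h4
    _ = _ := by group

end Cfsg.Agent.H538.RealGraph
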