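import Cfsg.Agent.H538.RealGraphB
import Cfsg.Agent.H538.NoRealP
import Cfsg.Agent.Lib.GoldschmidtFusion

/-!
# The prime graph on real class sizes, III: the solvable case (helper538)

`Disc.conclusion` : Theorem B of Tong-Viet for a solvable group.
-/

set_option autoImplicit false

namespace Cfsg.Agent.H538.RealGraph

open Cfsg.Agent.H538.RealBasics Cfsg.Agent.H538.NoRealP

variable {G : Type*} [Group G]

theorem twoGen_index_odd [Finite G] : Odd (twoGen G).index := by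
  rw [← Nat.not_even_iff_odd, even_iff_two_dvd]
  obtain ⟨S⟩ : Nonempty (Sylow 2 G) := inferInstance
  have hS : (S : Subgroup G) ≤ twoGen G := by
    intro x hx
    obtain ⟨k, hk⟩ := (IsPGroup.iff_orderOf.1 S.2) ⟨x, hx⟩
    exact mem_twoGen (k := k) (by rwa [Subgroup.orderOf_mk] at hk)
  intro h
  exact S.not_dvd_index (h.trans (Subgroup.index_dvd_of_le hS))

/-- class sizes in a subgroup divide class sizes for normal subgroups -/
theorem cs_dvd_of_normal [Finite G] (K : Subgroup G) [hK : K.Normal] (x : K) :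
    cs x ∣ cs (x : G) := by
  have h1 : Subgroup.centralizer ({x} : Set K) =
      (Subgroup.centralizer ({(x : G)} : Set G)).subgroupOf K := by
    ext y
    rw [Subgroup.mem_subgroupOf, Subgroup.mem_centralizer_singleton_iff,
      Subgroup.mem_centralizer_singleton_iff]
    constructor
    · intro h; exact congrArg Subtype.val h
    · intro h; exact Subtype.ext h
  change (Subgroup.centralizer ({x} : Set K)).index ∣ _
  rw [h1]
  exact Cfsg.Agent.Lib.GoldschmidtFusion.relIndex_dvd_index_of_normal_right _ K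

theorem real_of_real_subgroup (K : Subgroup G) {x : K} (hx : IsConj x x⁻¹) :
    IsConj (x : G) (x : G)⁻¹ := by
  obtain ⟨c, hc⟩ := isConj_iff.1 hx
  exact isConj_iff.2 ⟨c, congrArg Subtype.val hc⟩

theorem cs_dvd_card {K : Type*} [Group K] (x : K) : cs x ∣ Nat.card K :=
  Subgroup.index_dvd_card _

/-- Theorem B, case where the Sylow 2-subgroup is not normal -/
theorem Disc.conclusion [Finite G] {π₁ π₂ : Set ℕ} (h : Disc G π₁ π₂) (h2 : 2 ∈ π₁)
    (hsol : Group.IsSolvable G) (hS : ∃ P : Sylow 2 G, ¬ (P : Subgroup G).Normal) :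
    (∃ ρ₁ ρ₂ : Set ℕ, Disc (twoGen G) ρ₁ ρ₂) ∧
      ∀ n ∈ RealSizes (twoGen G), Odd n ∨ ∃ j : ℕ, n = 2 ^ j := by
  have hKn : (twoGen G).Normal := twoGen_normal
  have hKodd : Odd (twoGen G).index := twoGen_index_odd
  have hcard : ∀ r : ℕ, r.Prime → r ≠ 2 → r ∣ Nat.card (twoGen G) → r ∈ π₂ := by
    intro r hr hr2 hdvd
    by_contra hr'
    haveI := Fact.mk hr
    refine not_dvd_card_twoGen hr2 (Nat.card G) G rfl hsol ?_ hdvd
    rintro x ⟨k, hk⟩ hx
    exact no_real_of_not_mem h h2 hr2 hr' hx hk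
  have hsizes : ∀ n ∈ RealSizes (twoGen G), Odd n ∨ ∃ j : ℕ, n = 2 ^ j := by
    rintro n ⟨g, hg, rfl⟩
    have hgG := real_of_real_subgroup _ hg
    have hdvd : cs g ∣ cs (g : G) := cs_dvd_of_normal (twoGen G) g
    by_cases hev : 2 ∣ cs (g : G)
    · right
      refine ⟨_, Nat.eq_prime_pow_of_unique_prime_dvd (cs_pos g).ne' ?_⟩
      intro q hq hqg
      by_contra hq2
      have h3 : q ∈ π₂ := hcard q hq hq2 (hqg.trans (cs_dvd_card g))
      exact h.noedge 2 h2 q h3 _ (mem_realSizes hgG) ⟨hev, hqg.trans hdvd⟩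
    · left
      rw [← even_iff_two_dvd, Nat.not_even_iff_odd] at hev
      exact hev.of_dvd_nat hdvd
  refine ⟨?_, hsizes⟩
  -- a real element of odd order
  obtain ⟨P, hP⟩ := hS
  have hx : ∃ x : G, x ≠ 1 ∧ Odd (orderOf x) ∧ IsConj x x⁻¹ := by
    by_contra hcon
    push Not at hcon
    exact hP ((Cfsg.Agent.S3861.result P).1 hcon)
  obtain ⟨x, hx1, hxo, hxr⟩ := hx
  obtain ⟨-, -, h3⟩ := Cfsg.Agent.S3863.result x hxr
  obtain ⟨hxK, hxrK⟩ := h3 (twoGen G) hKodd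
  have hxe : 2 ∣ cs (⟨x, hxK⟩ : twoGen G) := by
    apply two_dvd_cs hxrK
    · rwa [Subgroup.orderOf_mk]
    · intro h4; exact hx1 (congrArg Subtype.val h4)
  -- an involution of `π₂`-class size
  obtain ⟨i, hi⟩ := exists_piv h h2
  have hiK : i ∈ twoGen G := by
    have h4 : orderOf i ∣ 2 ^ 1 := orderOf_dvd_of_pow_eq_one (by rw [pow_one]; exact hi.sq)
    obtain ⟨k, -, hk⟩ := (Nat.dvd_prime_pow Nat.prime_two).1 h4
    exact mem_twoGen hk
  have hirK : IsConj (⟨i, hiK⟩ : twoGen G) (⟨i, hiK⟩ : twoGen G)⁻¹ :=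
    isConj_inv_of_sq (Subtype.ext hi.sq)
  have hiodd : Odd (cs (⟨i, hiK⟩ : twoGen G)) :=
    (hi.odd h h2).of_dvd_nat (cs_dvd_of_normal (twoGen G) ⟨i, hiK⟩)
  have hi1 : cs (⟨i, hiK⟩ : twoGen G) ≠ 1 := by
    intro h4
    have h5 : Subgroup.centralizer ({(⟨i, hiK⟩ : twoGen G)} : Set (twoGen G)) = ⊤ :=
      Subgroup.index_eq_one.1 h4
    have h6 : (⟨x, hxK⟩ : twoGen G) ∈
        Subgroup.centralizer ({(⟨i, hiK⟩ : twoGen G)} : Set (twoGen G)) := by
      rw [h5]; exact Subgroup.mem_top _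
    rw [Subgroup.mem_centralizer_singleton_iff] at h6
    exact hi.not_commute h h2 hxr hxo hx1 (mem_cl_self i) (congrArg Subtype.val h6)
  obtain ⟨q, hq, hqi⟩ := Nat.exists_prime_and_dvd hi1
  have hq2 : q ≠ 2 := by
    rintro rfl
    exact (Nat.not_even_iff_odd.2 hiodd) (even_iff_two_dvd.2 hqi)
  refine ⟨{2}, {q | q.Prime ∧ q ≠ 2 ∧ ∃ n ∈ RealSizes (twoGen G), q ∣ n}, ⟨2, rfl⟩,
    ⟨q, hq, hq2, _, mem_realSizes hirK, hqi⟩, ?_, ?_, ?_, ?_⟩
  · rw [Set.disjoint_left]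
    rintro a rfl ⟨-, h4, -⟩
    exact h4 rfl
  · rintro a (rfl | ⟨h4, -, h5⟩)
    · exact ⟨Nat.prime_two, _, mem_realSizes hxrK, hxe⟩
    · exact ⟨h4, h5⟩
  · intro a ha hn
    by_cases h4 : a = 2
    · exact Or.inl h4
    · exact Or.inr ⟨ha, h4, hn⟩
  · rintro a rfl b ⟨hb, hb2, -⟩ n hn ⟨h4, h5⟩
    rcases hsizes n hn with h6 | ⟨j, rfl⟩
    · exact (Nat.not_even_iff_odd.2 h6) (even_iff_two_dvd.2 h4)
    · exact hb2 ((Nat.prime_dvd_prime_iff_eq hb Nat.prime_two).1 (hb.dvd_of_dvd_pow h5))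

end Cfsg.Agent.H538.RealGraph
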