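import Cfsg.Agent.H538.StarSix
import Cfsg.Agent.H679.IrredCent
import Cfsg.Agent.S2904

/-!
# The Zsigmondy step (helper538)
-/

set_option autoImplicit false

open scoped Pointwise

namespace Cfsg.Agent.H538.SM

open Cfsg.Agent.H538.RealBasics Cfsg.Agent.H538.RealGraph Cfsg.Agent.H538.TwoClosed
open Cfsg.Agent.H538.ConjAut

theorem mem_zpowers_of_cyclic {A : Type*} [Group A] [Finite A] [IsCyclic A] {a b : A}
    (h : b ^ orderOf a = 1) : b ∈ Subgroup.zpowers a := by
  classical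
  have := Fintype.ofFinite A
  have h1 := IsCyclic.card_pow_eq_one_le (α := A) (orderOf_pos a)
  have h2 : (Finset.univ.filter (fun x : A => x ∈ Subgroup.zpowers a)) ⊆
      Finset.univ.filter (fun x : A => x ^ orderOf a = 1) := by
    intro x hx
    rw [Finset.mem_filter] at hx ⊢
    obtain ⟨k, rfl⟩ := Subgroup.mem_zpowers_iff.1 hx.2
    refine ⟨Finset.mem_univ _, ?_⟩
    rw [← zpow_natCast, ← zpow_mul, mul_comm, zpow_mul, zpow_natCast, pow_orderOf_eq_one, one_zpow]
  have h3 : (Finset.univ.filter (fun x : A => x ∈ Subgroup.zpowers a)).card = orderOf a := by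
    rw [← Nat.card_zpowers, Nat.card_eq_fintype_card, Fintype.card_subtype]
  have h4 := Finset.eq_of_subset_of_card_le h2 (by rw [h3]; exact h1)
  have h5 : b ∈ Finset.univ.filter (fun x : A => x ∈ Subgroup.zpowers a) := by
    rw [h4, Finset.mem_filter]
    exact ⟨Finset.mem_univ _, h⟩
  exact (Finset.mem_filter.1 h5).2

variable {G W : Type*} [Group G] [AddCommGroup W] [DistribMulAction G W]

theorem dvd_two_pow_sub_one {r n k : ℕ} (hn : 0 < n) (h1 : r ∣ 2 ^ n - 1)
    (h2 : ∀ k : ℕ, 0 < k → k < n → ¬ r ∣ 2 ^ k - 1) (hk : r ∣ 2 ^ k - 1) : n ∣ k := by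
  have h3 : r ∣ Nat.gcd (2 ^ n - 1) (2 ^ k - 1) := Nat.dvd_gcd h1 hk
  rw [Nat.pow_sub_one_gcd_pow_sub_one] at h3
  by_contra h4
  have h5 : Nat.gcd n k < n := by
    apply lt_of_le_of_ne (Nat.le_of_dvd hn (Nat.gcd_dvd_left n k))
    intro h6
    apply h4
    rw [← h6]; exact Nat.gcd_dvd_right n k
  exact h2 _ (Nat.gcd_pos_of_pos_left k hn) h5 h3

/-- an element of odd prime order whose set of powers is normalised non-trivially by a
`2`-element is inverted by a power of it -/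
theorem exists_pow_inverts [Finite G] {y s : G} {a : ℕ} (hs : orderOf s = 2 ^ a)
    (hy : (orderOf y).Prime) (hsy : s * y * s⁻¹ ∈ Subgroup.zpowers y) (hne : ¬ Commute s y) :
    ∃ u : G, u * y * u⁻¹ = y⁻¹ := by
  classical
  -- minimal `f` with `s ^ 2 ^ f` commuting with `y`
  have hex : ∃ f, Commute (s ^ 2 ^ f) y := ⟨a, by rw [← hs, pow_orderOf_eq_one]; exact Commute.one_left y⟩
  set f := Nat.find hex with hf
  have hfs : Commute (s ^ 2 ^ f) y := Nat.find_spec hex
  have hf0 : f ≠ 0 := by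
    intro h0
    rw [h0, pow_zero, pow_one] at hfs
    exact hne hfs
  obtain ⟨g, hg⟩ := Nat.exists_eq_succ_of_ne_zero hf0
  have hgn : ¬ Commute (s ^ 2 ^ g) y := Nat.find_min hex (by rw [← hf, hg]; exact Nat.lt_succ_self g)
  set u := s ^ 2 ^ g with hu
  have huu : Commute (u * u) y := by
    rw [hu, ← pow_add, ← two_mul, ← pow_succ']
    rw [hg] at hfs
    exact hfs
  have hall : ∀ n : ℕ, s ^ n * y * (s ^ n)⁻¹ ∈ Subgroup.zpowers y := by
    intro n
    induction n with
    | zero => simp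
    | succ n ih =>
      obtain ⟨k, hk⟩ := Subgroup.mem_zpowers_iff.1 ih
      have : s ^ (n + 1) * y * (s ^ (n + 1))⁻¹ = (s * y * s⁻¹) ^ k := by
        calc s ^ (n + 1) * y * (s ^ (n + 1))⁻¹ = s * (s ^ n * y * (s ^ n)⁻¹) * s⁻¹ := by
              rw [pow_succ']; group
          _ = s * y ^ k * s⁻¹ := by rw [hk]
          _ = _ := conj_zpow.symm
      rw [this]
      exact zpow_mem hsy k
  obtain ⟨l, hl⟩ := Subgroup.mem_zpowers_iff.1 (hall (2 ^ g))
  rw [← hu] at hl
  -- l ^ 2 = 1 mod r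
  have h1 : y ^ (l * l) = y := by
    have h2 : u * (u * y * u⁻¹) * u⁻¹ = y := by
      calc u * (u * y * u⁻¹) * u⁻¹ = (u * u) * y * (u * u)⁻¹ := by group
        _ = y := by rw [huu.eq]; group
    rw [← hl, ← conj_zpow, ← hl, ← zpow_mul] at h2
    exact h2
  have h3 : (orderOf y : ℤ) ∣ l * l - 1 := by
    rw [orderOf_dvd_iff_zpow_eq_one, zpow_sub, h1, zpow_one, mul_inv_cancel]
  have h4 : (orderOf y : ℤ) ∣ (l - 1) * (l + 1) := by
    have : (l - 1) * (l + 1) = l * l - 1 := by ring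
    rwa [this]
  rcases (Int.Prime.dvd_mul' hy h4) with h5 | h5
  · exfalso
    apply hgn
    have h6 := orderOf_dvd_iff_zpow_eq_one.1 h5
    rw [zpow_sub, zpow_one, mul_inv_eq_one] at h6
    rw [h6] at hl
    change u * y = y * u
    calc u * y = (u * y * u⁻¹) * u := by group
      _ = y * u := by rw [← hl]
  · refine ⟨u, ?_⟩
    have h6 := orderOf_dvd_iff_zpow_eq_one.1 h5
    rw [zpow_add, zpow_one, mul_eq_one_iff_eq_inv] at h6
    rw [← hl, h6]

/-- the odd part trick: if `t` inverts `x` and normalises `R`, so does a `2`-element -/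
theorem exists_two_part [Finite G] (t : G) : ∃ b : ℕ, Odd b ∧ ∃ a : ℕ, orderOf (t ^ b) = 2 ^ a := by
  obtain ⟨k, m, hm, hkm⟩ := Nat.exists_eq_two_pow_mul_odd (orderOf_pos t).ne'
  refine ⟨m, hm, k, ?_⟩
  have hm0 : m ≠ 0 := by rintro rfl; exact absurd hm (by decide)
  rw [orderOf_pow_of_dvd hm0 (by rw [hkm]; exact Dvd.intro_left _ rfl), hkm,
    Nat.mul_div_cancel _ (Nat.pos_of_ne_zero hm0)]

theorem pow_odd_inverts {x t : G} (h : t * x * t⁻¹ = x⁻¹) {b : ℕ} (hb : Odd b) :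
    t ^ b * x * (t ^ b)⁻¹ = x⁻¹ := by
  have h2 : ∀ n : ℕ, (t ^ 2) ^ n * x * ((t ^ 2) ^ n)⁻¹ = x := by
    have h3 : t ^ 2 * x * (t ^ 2)⁻¹ = x := by
      calc t ^ 2 * x * (t ^ 2)⁻¹ = t * (t * x * t⁻¹) * t⁻¹ := by rw [pow_two]; group
        _ = t * x⁻¹ * t⁻¹ := by rw [h]
        _ = (t * x * t⁻¹)⁻¹ := by group
        _ = x := by rw [h, inv_inv]
    intro n
    induction n with
    | zero => simp
    | succ n ih =>
      rw [pow_succ']
      calc t ^ 2 * (t ^ 2) ^ n * x * (t ^ 2 * (t ^ 2) ^ n)⁻¹ =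
          t ^ 2 * ((t ^ 2) ^ n * x * ((t ^ 2) ^ n)⁻¹) * (t ^ 2)⁻¹ := by group
        _ = x := by rw [ih, h3]
  obtain ⟨k, rfl⟩ := hb
  rw [pow_succ', pow_mul]
  calc t * (t ^ 2) ^ k * x * (t * (t ^ 2) ^ k)⁻¹ =
      t * ((t ^ 2) ^ k * x * ((t ^ 2) ^ k)⁻¹) * t⁻¹ := by group
    _ = x⁻¹ := by rw [h2, h]

theorem centralizer_normalised {x z : G} (h : z * x * z⁻¹ = x⁻¹) (k : G) :
    k ∈ Subgroup.centralizer ({x} : Set G) ↔ z * k * z⁻¹ ∈ Subgroup.centralizer ({x} : Set G) := by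
  rw [Subgroup.mem_centralizer_singleton_iff, Subgroup.mem_centralizer_singleton_iff]
  have h2 : z * x⁻¹ * z⁻¹ = x := by
    have := congrArg (fun y => y⁻¹) h
    simpa [mul_assoc] using this
  constructor
  · intro hk
    have h1 : k * x⁻¹ = x⁻¹ * k := (show Commute k x from hk).inv_right.eq
    calc z * k * z⁻¹ * x = z * k * z⁻¹ * (z * x⁻¹ * z⁻¹) := by rw [h2]
      _ = z * (k * x⁻¹) * z⁻¹ := by group
      _ = z * (x⁻¹ * k) * z⁻¹ := by rw [h1]
      _ = (z * x⁻¹ * z⁻¹) * (z * k * z⁻¹) := by group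
      _ = _ := by rw [h2]
  · intro hk
    have h1 : z * k * z⁻¹ * x⁻¹ = x⁻¹ * (z * k * z⁻¹) :=
      (show Commute (z * k * z⁻¹) x from hk).inv_right.eq
    rw [← h] at h1
    have h3 := congrArg (fun y => z⁻¹ * y * z) h1
    calc k * x = z⁻¹ * (z * k * z⁻¹ * (z * x * z⁻¹)) * z := by group
      _ = z⁻¹ * (z * x * z⁻¹ * (z * k * z⁻¹)) * z := h3
      _ = x * k := by group

/-- the Zsigmondy step -/
theorem SMod.hall_of_zsig [Finite G] [Finite W] (h : SMod G W) (hne : ∃ w : W, w ≠ 0) {z : G}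
    (hz : orderOf z = 2) (P : Sylow 2 G) {m c : ℕ} (hW : Nat.card W = 2 ^ (2 * m))
    (hV : Nat.card (V W (P : Subgroup G)) = 2 ^ c) (hc : 0 < c) (hcm : c < 2 * m) (hm : 2 ≤ m)
    (hm3 : m ≠ 3) : ∃ Y : Subgroup G, IsCyclic Y ∧ ∀ w : W, w ≠ 0 →
      (MulAction.stabilizer G w).index = Nat.card Y ∧
      (Nat.card Y).Coprime (Nat.card (MulAction.stabilizer G w)) := by
  obtain ⟨r, hr, hrd, hrn⟩ := Cfsg.Agent.S2904.result 2 (2 * m) (by norm_num) (by omega)
    (by omega) (by omega)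
  have hrp := Fact.mk hr
  -- `r` divides the number of Sylow 2-subgroups
  have hrs : r ∣ Nat.card (Sylow 2 G) := by
    have h1 := h.card_W P
    rw [hW, hV] at h1
    rw [h1] at hrd
    exact (hr.dvd_mul.1 hrd).resolve_right (hrn c hc hcm)
  have hrstab : ∀ w : W, w ≠ 0 → r ∣ (MulAction.stabilizer G w).index := fun w hw =>
    hrs.trans (h.card_sylow_dvd hw)
  obtain ⟨x, hx, hp, ho⟩ := h.exists_inverted hz
  set K := Subgroup.centralizer ({x} : Set G) with hK
  have hrK : ¬ r ∣ K.index := by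
    intro h1
    obtain ⟨w, hw⟩ := hne
    have h2 := Nat.dvd_gcd h1 (hrstab w hw)
    rw [Nat.Coprime.gcd_eq_one (h.cop x z hx hp ho w hw)] at h2
    exact hr.one_lt.ne' (Nat.dvd_one.1 h2)
  have hrcK : r ∣ Nat.card K := by
    obtain ⟨w, hw⟩ := hne
    have h1 : r ∣ Nat.card G := (hrstab w hw).trans (Subgroup.index_dvd_card _)
    rw [← K.index_mul_card] at h1
    exact (hr.dvd_mul.1 h1).resolve_left hrK
  obtain ⟨R⟩ : Nonempty (Sylow r K) := inferInstance
  have hRnt : Nontrivial (R : Subgroup K) := by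
    rw [← Finite.one_lt_card_iff_nontrivial]
    exact lt_of_lt_of_le hr.one_lt (Nat.le_of_dvd Nat.card_pos (R.dvd_card_of_dvd_card hrcK))
  have hRc := R.isPGroup'.center_nontrivial
  -- a central element `y` of `R` of order `r`
  have hyex : ∃ y : K, y ∈ R ∧ orderOf (y : G) = r ∧ ∀ v : K, v ∈ R → Commute (v : G) (y : G) := by
    have h1 : r ∣ Nat.card (Subgroup.center (R : Subgroup K)) := by
      have h2 : IsPGroup r (Subgroup.center (R : Subgroup K)) := R.isPGroup'.to_subgroup _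
      obtain ⟨n, hn0, hn⟩ := h2.nontrivial_iff_card.1 hRc
      rw [hn]; exact dvd_pow_self r hn0.ne'
    obtain ⟨y, hy⟩ := exists_prime_orderOf_dvd_card' r h1
    refine ⟨((y : (R : Subgroup K)) : K), (y : (R : Subgroup K)).2, ?_, ?_⟩
    · rw [Subgroup.orderOf_coe, Subgroup.orderOf_coe, Subgroup.orderOf_coe]; exact hy
    · intro v hv
      have h3 := Subgroup.mem_center_iff.1 y.2 ⟨v, hv⟩
      have h4 : v * ((y : (R : Subgroup K)) : K) = ((y : (R : Subgroup K)) : K) * v :=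
        congrArg Subtype.val h3
      exact congrArg Subtype.val h4
  obtain ⟨y, hyR, hyo, hyc⟩ := hyex
  have hyr : orderOf (y : G) = r ^ 1 := by rw [hyo, pow_one]
  have h2m : r ∣ Nat.card W - 1 := by rw [hW]; exact hrd
  have hWmod : Nat.card W ≡ 1 [MOD r] :=
    ((Nat.modEq_iff_dvd' (by rw [hW]; exact Nat.one_le_two_pow)).2 h2m).symm
  have hdv : ∀ U : AddSubgroup W, Nat.card U ≡ 1 [MOD r] → U = ⊥ ∨ U = ⊤ := by
    intro U hU
    obtain ⟨k, hk⟩ := card_pow_two h.two U
    have h1 : r ∣ 2 ^ k - 1 := by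
      rw [← hk]
      exact (Nat.modEq_iff_dvd' (by rw [hk]; exact Nat.one_le_two_pow)).1 hU.symm
    have h2 := dvd_two_pow_sub_one (by omega) hrd hrn h1
    rcases Nat.eq_zero_or_pos k with h0 | h0
    · left
      rw [h0, pow_zero] at hk
      exact AddSubgroup.card_eq_one.1 hk
    · right
      have h3 := Nat.le_of_dvd h0 h2
      apply AddSubgroup.eq_top_of_le_card
      rw [hk, hW]
      exact Nat.pow_le_pow_right (by norm_num) h3
  have hfy : fx W (y : G) = ⊥ := by
    have h1 := card_modEq_fix hyr (⊤ : AddSubgroup W) (fun _ _ => AddSubgroup.mem_top _)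
    rw [Nat.card_congr AddSubgroup.topEquiv.toEquiv, top_inf_eq] at h1
    rcases hdv _ (h1.symm.trans hWmod) with h2 | h2
    · exact h2
    · exfalso
      have h3 : (y : G) = 1 := h.faithful _ (fun w => by
        have : w ∈ fx W (y : G) := by rw [h2]; exact AddSubgroup.mem_top w
        exact this)
      rw [h3, orderOf_one] at hyo
      exact hr.one_lt.ne hyo
  have hirr : ∀ U : AddSubgroup W, (∀ u ∈ U, (y : G) • u ∈ U) → U = ⊥ ∨ U = ⊤ := by
    intro U hU
    apply hdv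
    have h1 := card_modEq_fix hyr U hU
    rwa [hfy, inf_bot_eq, AddSubgroup.card_bot] at h1
  set Y := Subgroup.centralizer ({(y : G)} : Set G) with hY
  have hcyc : IsCyclic Y :=
    Cfsg.Agent.H679.isCyclic_centralizer_of_irreducible h.faithful hne (y : G) hirr
  -- Frattini
  obtain ⟨k, hkK, hkR⟩ := exists_frattini K z (centralizer_normalised hx) r R
  set t := k * z with ht
  have htx : t * x * t⁻¹ = x⁻¹ := by
    have h1 : Commute k x := Subgroup.mem_centralizer_singleton_iff.1 hkK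
    calc t * x * t⁻¹ = k * (z * x * z⁻¹) * k⁻¹ := by rw [ht]; group
      _ = k * x⁻¹ * k⁻¹ := by rw [hx]
      _ = x⁻¹ := by rw [h1.inv_right.eq]; group
  obtain ⟨b, hb, a, ha⟩ := exists_two_part t
  have hsx := pow_odd_inverts htx hb
  have hpowR : ∀ n : ℕ, ∀ v : K, v ∈ R → ∃ v' : K, v' ∈ R ∧ (v' : G) = t ^ n * v * (t ^ n)⁻¹ := by
    intro n
    induction n with
    | zero => intro v hv; exact ⟨v, hv, by simp⟩
    | succ n ih =>
      intro v hv
      obtain ⟨v', hv', h1⟩ := ih v hv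
      obtain ⟨v'', hv'', h2⟩ := hkR v' hv'
      refine ⟨v'', hv'', ?_⟩
      rw [h2, h1, pow_succ']; group
  have hsy : t ^ b * y * (t ^ b)⁻¹ ∈ Subgroup.zpowers (y : G) := by
    obtain ⟨y', hy', h1⟩ := hpowR b y hyR
    have hy'Y : (y' : G) ∈ Y := by
      rw [hY, Subgroup.mem_centralizer_singleton_iff]
      exact (hyc y' hy').eq
    have hyY : (y : G) ∈ Y := by
      rw [hY, Subgroup.mem_centralizer_singleton_iff]
    have h2 : (⟨y', hy'Y⟩ : Y) ∈ Subgroup.zpowers (⟨y, hyY⟩ : Y) := by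
      apply mem_zpowers_of_cyclic
      rw [Subgroup.orderOf_mk]
      apply Subtype.ext
      change (y' : G) ^ orderOf (y : G) = 1
      rw [h1, conj_pow, pow_orderOf_eq_one]; group
    rw [← h1]
    obtain ⟨j, hj⟩ := Subgroup.mem_zpowers_iff.1 h2
    exact Subgroup.mem_zpowers_iff.2 ⟨j, congrArg Subtype.val hj⟩
  have hxY : x ∈ Y := by
    rw [hY, Subgroup.mem_centralizer_singleton_iff]
    have h1 : Commute (y : G) x := Subgroup.mem_centralizer_singleton_iff.1 y.2
    exact h1.symm.eq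
  have hnc : ¬ Commute (t ^ b) (y : G) := by
    intro h1
    have hsY : t ^ b ∈ Y := by
      rw [hY, Subgroup.mem_centralizer_singleton_iff]; exact h1.eq
    have h2 : t ^ b * x = x * t ^ b := by
      have hcomm : IsMulCommutative Y := IsCyclic.isMulCommutative
      have := hcomm.is_comm.comm (⟨t ^ b, hsY⟩ : Y) ⟨x, hxY⟩
      exact congrArg Subtype.val this
    rw [h2] at hsx
    have h3 : x = x⁻¹ := by
      calc x = x * t ^ b * (t ^ b)⁻¹ := by group
        _ = x⁻¹ := hsx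
    have h4 : x ^ 2 = 1 := by rw [pow_two]; nth_rewrite 2 [h3]; group
    have h5 := orderOf_dvd_of_pow_eq_one h4
    rw [(Nat.prime_dvd_prime_iff_eq hp Nat.prime_two).1 h5] at ho
    exact absurd ho (by decide)
  obtain ⟨u, hu⟩ := exists_pow_inverts ha (by rw [hyo]; exact hr) hsy hnc
  have hrodd : Odd r := by
    rw [← Nat.not_even_iff_odd, even_iff_two_dvd]
    intro h2
    have h3 : 2 ∣ 2 ^ (2 * m) - 1 := h2.trans hrd
    have h4 : 2 ∣ 2 ^ (2 * m) := dvd_pow_self 2 (by omega)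
    have h5 : 1 ≤ 2 ^ (2 * m) := Nat.one_le_two_pow
    omega
  refine ⟨Y, hcyc, fun w hw => ?_⟩
  have hcop : Y.index.Coprime (MulAction.stabilizer G w).index :=
    h.cop y u hu (by rw [hyo]; exact hr) (by rw [hyo]; exact hrodd) w hw
  have hinf : Y ⊓ MulAction.stabilizer G w = ⊥ := by
    rw [eq_bot_iff]
    rintro g ⟨hg1, hg2⟩
    rw [Subgroup.mem_bot]
    have hgy : Commute g (y : G) := Subgroup.mem_centralizer_singleton_iff.1 hg1
    rcases hirr (fx W g) (fun v hv => by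
      rw [mem_fx] at hv ⊢
      rw [smul_smul, hgy.eq, mul_smul, hv]) with h1 | h1
    · exfalso
      have h2 : w ∈ fx W g := hg2
      rw [h1] at h2
      exact hw h2
    · apply h.faithful
      intro v
      have : v ∈ fx W g := by rw [h1]; exact AddSubgroup.mem_top v
      exact this
  have hidx := (Cfsg.Agent.S0007.result _ _ hcop).1
  rw [hinf, Subgroup.index_bot] at hidx
  have h1 := Y.index_mul_card
  have hYpos : 0 < Y.index := Nat.pos_of_ne_zero Subgroup.index_ne_zero_of_finite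
  have h2 : Nat.card Y = (MulAction.stabilizer G w).index := by
    apply Nat.eq_of_mul_eq_mul_left hYpos
    rw [h1, hidx]
  have h3 := (MulAction.stabilizer G w).index_mul_card
  have hspos : 0 < (MulAction.stabilizer G w).index :=
    Nat.pos_of_ne_zero Subgroup.index_ne_zero_of_finite
  have h4 : Nat.card (MulAction.stabilizer G w) = Y.index := by
    apply Nat.eq_of_mul_eq_mul_left hspos
    rw [h3, hidx, mul_comm]
  refine ⟨h2.symm, ?_⟩
  rw [h2, h4]
  exact hcop.symm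

end Cfsg.Agent.H538.SM
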